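import Cfsg.Agent.JankoFour.Reduce.Types
import Cfsg.Agent.JankoFour.Involutions

/-!
The two classes of involutions of a group of Janko-four type and non-commutativity.
-/

set_option autoImplicit false
set_option linter.style.haveILetI false

namespace Cfsg.Lib.JankoFour.Reduce

open Subgroup

theorem not_comm {G : Type*} [Group G] [Finite G] {z : G} (hJ : Cfsg.IsOfJankoFourTypeAt z) :
    ¬ IsMulCommutative G := by
  intro hcomm
  obtain ⟨P, -, ⟨⟨-, -, hder⟩, hZ⟩, hcard, -⟩ := hJ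
  have htop : commutator ↥(twoCoreOfCentralizer z) = ⊥ := by
    rw [eq_bot_iff, commutator_def, commutator_le]
    intro a _ b _
    rw [mem_bot, commutatorElement_eq_one_iff_mul_comm]
    exact Subtype.ext (mul_comm' (a : G) b)
  rw [← hder, htop, card_bot] at hZ
  norm_num at hZ

theorem two_classes {G : Type*} [Group G] [Finite G] [IsSimpleGroup G] (hG : ¬ IsMulCommutative G) {z : G}
    (hJ : Cfsg.IsOfJankoFourTypeAt z) :
    ∃ x y : G, orderOf x = 2 ∧ orderOf y = 2 ∧ ¬ IsConj x y ∧ ∀ w : G, orderOf w = 2 → IsConj w x ∨ IsConj w y := by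
  obtain ⟨P, hP⟩ := hJ
  obtain ⟨C⟩ := Cfsg.Lib.JankoFour.exists_ctx hP
  set D := C.sextet hG with hD
  obtain ⟨t, ht⟩ := D.T_nonempty
  have hone : ∀ {v : G}, v * v = 1 → v ≠ 1 → orderOf v = 2 := fun h1 h2 =>
    orderOf_eq_prime (by rw [pow_two]; exact h1) h2
  refine ⟨z, t, hP.1, hone (C.V_sq ht.1) ht.2.1, fun h => ht.2.2 h, fun w hw => ?_⟩
  have hw2 : w * w = 1 := by rw [← pow_two, ← hw, pow_orderOf_eq_one]
  have hw1 : w ≠ 1 := fun e => by simp [e] at hw
  obtain ⟨v, hv, hconj⟩ := C.to_V hG hw2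
  have hv1 : v ≠ 1 := fun e => hw1 (by
    rw [e] at hconj
    obtain ⟨c, hc⟩ := isConj_iff.mp hconj
    exact conj_eq_one_iff.mp hc)
  by_cases hz : IsConj z v
  · exact Or.inl (hconj.trans hz.symm)
  · obtain ⟨n, -, e⟩ := D.transitive ht ⟨hv, hv1, hz⟩
    exact Or.inr (hconj.trans (isConj_iff.mpr ⟨n, e⟩).symm)

end Cfsg.Lib.JankoFour.Reduce
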