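import Mathlib

/-!
Fixed points of an element of order three and of a group of order nine acting by conjugation on a subgroup.
-/

set_option autoImplicit false
set_option linter.style.haveILetI false

namespace Cfsg.Lib.JankoFour.Reduce

open Subgroup

variable {G : Type*} [Group G]

/-- The number of elements of a subgroup commuting with an element. -/
noncomputable def fixCard (R : Subgroup G) (x : G) : ℕ := Nat.card ↥(R ⊓ centralizer ({x} : Set G))

theorem mem_fix {R : Subgroup G} {x r : G} : r ∈ R ⊓ centralizer ({x} : Set G) ↔ r ∈ R ∧ Commute r x := by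
  rw [mem_inf, mem_centralizer_singleton_iff]; rfl

theorem fixCard_conj {R : Subgroup G} {b : G} (hb : b ∈ normalizer (R : Set G)) (x : G) :
    fixCard R (b * x * b⁻¹) = fixCard R x := by
  have e : R ⊓ centralizer ({b * x * b⁻¹} : Set G) =
      (R ⊓ centralizer ({x} : Set G)).map (MulAut.conj b).toMonoidHom := by
    ext r
    constructor
    · intro hr
      obtain ⟨h1, h2⟩ := mem_fix.mp hr
      refine ⟨b⁻¹ * r * b, mem_fix.mpr ⟨(mem_normalizer_iff''.mp hb r).mp h1, ?_⟩, by
        show b * (b⁻¹ * r * b) * b⁻¹ = r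
        group⟩
      show b⁻¹ * r * b * x = x * (b⁻¹ * r * b)
      calc b⁻¹ * r * b * x = b⁻¹ * (r * (b * x * b⁻¹)) * b := by group
        _ = b⁻¹ * (b * x * b⁻¹ * r) * b := by rw [h2.eq]
        _ = _ := by group
    · rintro ⟨s, hs, rfl⟩
      obtain ⟨h1, h2⟩ := mem_fix.mp hs
      refine mem_fix.mpr ⟨(mem_normalizer_iff.mp hb s).mp h1, ?_⟩
      show b * s * b⁻¹ * (b * x * b⁻¹) = b * x * b⁻¹ * (b * s * b⁻¹)
      calc b * s * b⁻¹ * (b * x * b⁻¹) = b * (s * x) * b⁻¹ := by group
        _ = b * (x * s) * b⁻¹ := by rw [h2.eq]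
        _ = _ := by group
  rw [fixCard, fixCard, e, Subgroup.card_map_of_injective (MulAut.conj b).injective]

theorem fixCard_central {R : Subgroup G} {c : G} (hc : ∀ r ∈ R, Commute c r) (x : G) :
    fixCard R (c * x) = fixCard R x := by
  have e : R ⊓ centralizer ({c * x} : Set G) = R ⊓ centralizer ({x} : Set G) := by
    ext r
    rw [mem_fix, mem_fix]
    refine and_congr_right fun hr => ⟨fun h => ?_, fun h => (hc r hr).symm.mul_right h⟩
    simpa using (hc r hr).symm.inv_right.mul_right h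
  rw [fixCard, fixCard, e]

/-- An element of prime power order acting on a subgroup. -/
theorem card_modEq_fix [Finite G] {R : Subgroup G} {x : G} (hx : x ∈ normalizer (R : Set G)) {p n : ℕ}
    [Fact p.Prime] (hxo : x ^ p ^ n = 1) : Nat.card ↥R ≡ fixCard R x [MOD p] := by
  classical
  haveI := Fintype.ofFinite ↥R
  let f : Function.End ↥R := fun r => ⟨x * r * x⁻¹, (mem_normalizer_iff.mp hx r).mp r.2⟩
  have hf : ∀ (k : ℕ) (r : ↥R), ((f ^ k : Function.End ↥R) r : G) = x ^ k * r * (x ^ k)⁻¹ := by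
    intro k
    induction k with
    | zero => intro r; simp; rfl
    | succ k ih =>
      intro r
      rw [pow_succ']
      show x * ((f ^ k : Function.End ↥R) r : G) * x⁻¹ = _
      rw [ih, pow_succ']; group
  have h1 : f ^ p ^ n = 1 := funext fun r => Subtype.ext (by rw [hf, hxo]; simp; rfl)
  have h := Equiv.Perm.card_fixedPoints_modEq h1
  rw [← Nat.card_eq_fintype_card, ← Nat.card_eq_fintype_card] at h
  have key : ∀ {m n : ℕ}, m = n → m ≡ n [MOD p] := fun e => e ▸ Nat.ModEq.refl _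
  refine h.trans (key ?_)
  refine Nat.card_congr
    { toFun := fun r => ⟨(r.1 : G), mem_fix.mpr ⟨r.1.2, ?_⟩⟩
      invFun := fun r => ⟨⟨r.1, (mem_fix.mp r.2).1⟩, ?_⟩
      left_inv := fun r => rfl
      right_inv := fun r => rfl }
  · have h2 : x * (r.1 : G) * x⁻¹ = r.1 := congrArg Subtype.val r.2
    exact (mul_inv_eq_iff_eq_mul.mp h2).symm
  · refine Subtype.ext ?_
    show x * (r : G) * x⁻¹ = r
    rw [← (mem_fix.mp r.2).2.eq, mul_inv_cancel_right]

/-- A group of order nine generated by an element with two fixed points and one moved onto its multiples. -/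
theorem nine_count [Finite G] (R : Subgroup G) {p a b c : G} (hp : p ^ 3 = 1) (hp1 : p ≠ 1)
    (hap : a ∉ zpowers p) {l : ℕ} (ha3 : a ^ 3 = p ^ l) (hcomm : Commute a p)
    (hpR : p ∈ normalizer (R : Set G)) (haR : a ∈ normalizer (R : Set G)) (hbR : b ∈ normalizer (R : Set G))
    (hcR : ∀ r ∈ R, Commute c r) (hbp : Commute b p)
    {j : ℕ} (hj : j % 3 ≠ 0) (hba : b * a * b⁻¹ = c * p ^ j * a) (hfix : fixCard R p = 2) :
    Nat.card ↥R % 9 = 2 := by
  classical
  have hmod : ∀ i, p ^ i = p ^ (i % 3) := fun i => by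
    conv_lhs => rw [← Nat.div_add_mod i 3, pow_add, pow_mul, hp, one_pow, one_mul]
  -- fixed points are constant off the subgroup of order three
  have hsq : ∀ x : G, x ^ 9 = 1 → fixCard R (x ^ 2) = fixCard R x := by
    intro x hx
    have e : R ⊓ centralizer ({x ^ 2} : Set G) = R ⊓ centralizer ({x} : Set G) := by
      ext r
      rw [mem_fix, mem_fix]
      refine and_congr_right fun _ => ⟨fun h => ?_, fun h => h.pow_right 2⟩
      have := h.pow_right 5
      rwa [← pow_mul, show 2 * 5 = 9 + 1 by norm_num, pow_succ, hx, one_mul] at this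
    rw [fixCard, fixCard, e]
  have hfp2 : fixCard R (p ^ 2) = 2 := by rw [hsq p (by rw [show 9 = 3 * 3 by norm_num, pow_mul, hp, one_pow]), hfix]
  have ha9 : ∀ i, (p ^ i * a) ^ 9 = 1 := fun i => by
    rw [(hcomm.symm.pow_left i).mul_pow, ← pow_mul, show i * 9 = 3 * (i * 3) by ring, pow_mul, hp, one_pow, one_mul,
      show 9 = 3 * 3 by norm_num, pow_mul, ha3, ← pow_mul, mul_comm, pow_mul, hp, one_pow]
  set f := fixCard R a with hf
  have h1 : fixCard R (p ^ j * a) = f := by
    rw [← fixCard_central hcR, ← mul_assoc, ← hba, fixCard_conj hbR]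
  have h2 : fixCard R (p ^ (2 * j) * a) = f := by
    rw [← h1, ← fixCard_conj hbR (p ^ j * a),
      show b * (p ^ j * a) * b⁻¹ = (b * p ^ j * b⁻¹) * (b * a * b⁻¹) by group, hba, (hbp.pow_right j).eq,
      mul_inv_cancel_right]
    have hcp : ∀ r ∈ R, Commute (p ^ j * c * (p ^ j)⁻¹) r := fun r hr => by
      have hn := pow_mem hpR j
      have h' := hcR _ ((mem_normalizer_iff''.mp hn r).mp hr)
      show p ^ j * c * (p ^ j)⁻¹ * r = r * (p ^ j * c * (p ^ j)⁻¹)
      calc p ^ j * c * (p ^ j)⁻¹ * r = p ^ j * (c * ((p ^ j)⁻¹ * r * p ^ j)) * (p ^ j)⁻¹ := by group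
        _ = p ^ j * ((p ^ j)⁻¹ * r * p ^ j * c) * (p ^ j)⁻¹ := by rw [h'.eq]
        _ = _ := by group
    rw [show p ^ j * (c * p ^ j * a) = (p ^ j * c * (p ^ j)⁻¹) * (p ^ (2 * j) * a) by rw [two_mul, pow_add]; group,
      fixCard_central hcp]
  have hfa : ∀ i, fixCard R (p ^ i * a) = f := by
    intro i
    rw [hmod]
    rw [hmod] at h1 h2
    rcases (show i % 3 = 0 ∨ i % 3 = j % 3 ∨ i % 3 = 2 * j % 3 by omega) with e | e | e <;> rw [e]
    · rw [pow_zero, one_mul]
    · exact h1
    · exact h2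
  have hfa2 : ∀ i, fixCard R (p ^ i * a ^ 2) = f := by
    intro i
    have e : p ^ i * a ^ 2 = (p ^ (2 * i) * a) ^ 2 := by
      rw [(hcomm.symm.pow_left (2 * i)).mul_pow, ← pow_mul, show 2 * i * 2 = 3 * i + i by ring, pow_add, pow_mul, hp,
        one_pow, one_mul]
    rw [e, hsq _ (ha9 _), hfa]
  have hf3 : f % 3 = 2 := by
    set F := R ⊓ centralizer ({a} : Set G) with hF
    have hpF : p ∈ normalizer (F : Set G) := by
      refine mem_normalizer_iff.mpr fun r => ?_
      rw [hF, mem_fix, mem_fix, mem_normalizer_iff.mp hpR r]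
      refine and_congr_right fun _ => ?_
      show Commute r a ↔ Commute (p * r * p⁻¹) a
      conv_rhs => rw [show a = p * a * p⁻¹ by rw [← hcomm.eq, mul_inv_cancel_right]]
      exact (Commute.conj_iff p).symm
    haveI : Fact (Nat.Prime 3) := ⟨Nat.prime_three⟩
    have h := card_modEq_fix hpF (p := 3) (n := 1) (by rw [pow_one, hp])
    have hle : F ⊓ centralizer ({p} : Set G) ≤ R ⊓ centralizer ({p} : Set G) := inf_le_inf_right _ inf_le_left
    have hge : R ⊓ centralizer ({p} : Set G) ≤ F ⊓ centralizer ({p} : Set G) := by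
      haveI : Finite ↥(R ⊓ centralizer ({p} : Set G)) := inferInstance
      obtain ⟨z, hz, huniq⟩ := (Nat.card_eq_two_iff' (1 : ↥(R ⊓ centralizer ({p} : Set G)))).mp hfix
      have han : ∀ r ∈ R ⊓ centralizer ({p} : Set G), a * r * a⁻¹ ∈ R ⊓ centralizer ({p} : Set G) := fun r hr => by
        obtain ⟨h1, h2⟩ := mem_fix.mp hr
        refine mem_fix.mpr ⟨(mem_normalizer_iff.mp haR r).mp h1, ?_⟩
        rw [show p = a * p * a⁻¹ by rw [hcomm.eq, mul_inv_cancel_right]]
        exact (Commute.conj_iff a).mpr h2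
      intro r hr
      refine ⟨mem_fix.mpr ⟨(mem_fix.mp hr).1, ?_⟩, hr.2⟩
      by_cases hr1 : r = 1
      · rw [hr1]; exact Commute.one_left a
      have e1 := huniq ⟨r, hr⟩ fun e => hr1 (congrArg Subtype.val e)
      have e2 := huniq ⟨_, han r hr⟩ fun e => hr1 (by simpa using congrArg Subtype.val e)
      exact (mul_inv_eq_iff_eq_mul.mp (congrArg Subtype.val (e2.trans e1.symm))).symm
    rw [show fixCard F p = fixCard R p by rw [fixCard, fixCard, le_antisymm hle hge], hfix] at h
    exact h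
  -- the group of order nine
  let v : Fin 3 × Fin 3 → G := fun k => p ^ k.1.val * a ^ k.2.val
  have hcp : ∀ i k, Commute (a ^ k) (p ^ i) := fun i k => hcomm.pow_pow k i
  have hmul : ∀ i k i' k', p ^ i * a ^ k * (p ^ i' * a ^ k') = p ^ (i + i') * a ^ (k + k') := fun i k i' k' => by
    rw [mul_assoc, ← mul_assoc (a ^ k), (hcp i' k).eq, pow_add, pow_add]; group
  have hred : ∀ i k, ∃ q : Fin 3 × Fin 3, p ^ i * a ^ k = v q := fun i k => by
    refine ⟨(⟨(i + l * (k / 3)) % 3, Nat.mod_lt _ (by norm_num)⟩, ⟨k % 3, Nat.mod_lt _ (by norm_num)⟩), ?_⟩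
    show p ^ i * a ^ k = p ^ ((i + l * (k / 3)) % 3) * a ^ (k % 3)
    rw [← hmod, pow_add, pow_mul, ← ha3, ← pow_mul, mul_assoc, ← pow_add, Nat.div_add_mod]
  let E : Subgroup G :=
    { carrier := Set.range v
      one_mem' := ⟨(0, 0), by simp [v]⟩
      mul_mem' := by
        rintro _ _ ⟨x, rfl⟩ ⟨y, rfl⟩
        obtain ⟨q, hq⟩ := hred (x.1.val + y.1.val) (x.2.val + y.2.val)
        exact ⟨q, hq.symm.trans (hmul _ _ _ _).symm⟩
      inv_mem' := by
        rintro _ ⟨x, rfl⟩
        obtain ⟨q, hq⟩ := hred (x.1.val * 8) (x.2.val * 8)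
        refine ⟨q, hq.symm.trans (eq_inv_of_mul_eq_one_left ?_)⟩
        show p ^ (x.1.val * 8) * a ^ (x.2.val * 8) * (p ^ x.1.val * a ^ x.2.val) = 1
        rw [hmul, show x.1.val * 8 + x.1.val = 3 * (3 * x.1.val) by ring, pow_mul, hp, one_pow, one_mul,
          show x.2.val * 8 + x.2.val = 9 * x.2.val by ring, pow_mul]
        have := ha9 0
        rw [pow_zero, one_mul] at this
        rw [this, one_pow] }
  have hinj : Function.Injective v := by
    rintro ⟨i, k⟩ ⟨i', k'⟩ h
    have hk : k.val = k'.val := by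
      by_contra hne
      have hz : ∀ m n : ℕ, m < n → n < 3 → ∀ s t : ℕ, p ^ s * a ^ m = p ^ t * a ^ n → False := by
        intro m n hmn hn s t h
        refine hap ?_
        have hd : a ^ (n - m) ∈ zpowers p := by
          have e : a ^ (n - m) = (p ^ t)⁻¹ * p ^ s := by
            rw [show n = n - m + m by omega, pow_add, ← mul_assoc] at h
            rw [mul_right_cancel h, inv_mul_cancel_left]
          rw [e]
          exact mul_mem (inv_mem (npow_mem_zpowers p t)) (npow_mem_zpowers p s)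
        rcases (show n - m = 1 ∨ n - m = 2 by omega) with e | e <;> rw [e] at hd
        · rwa [pow_one] at hd
        · have : a = (a ^ 2)⁻¹ * a ^ 3 := by group
          rw [this, ha3]
          exact mul_mem (inv_mem hd) (npow_mem_zpowers p l)
      rcases Nat.lt_or_gt_of_ne hne with hlt | hlt
      · exact hz _ _ hlt k'.2 _ _ h
      · exact hz _ _ hlt k.2 _ _ h.symm
    obtain rfl : k = k' := Fin.ext hk
    have h' : p ^ i.val = p ^ i'.val := mul_right_cancel h
    have hord : orderOf p = 3 := orderOf_eq_prime hp hp1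
    exact Prod.ext (Fin.ext (pow_injOn_Iio_orderOf (by simp [hord]) (by simp [hord]) h')) rfl
  have hEn : E ≤ normalizer (R : Set G) := by
    rintro _ ⟨x, rfl⟩; exact mul_mem (pow_mem hpR _) (pow_mem haR _)
  let act : MulAction ↥E ↥R :=
    { smul := fun e r => ⟨(e : G) * r * (e : G)⁻¹, (mem_normalizer_iff.mp (hEn e.2) r).mp r.2⟩
      one_smul := fun r => Subtype.ext (by show ((1 : ↥E) : G) * r * ((1 : ↥E) : G)⁻¹ = r; simp)
      mul_smul := fun x y r => Subtype.ext (by
        show ((x * y : ↥E) : G) * r * ((x * y : ↥E) : G)⁻¹ = x * ((y : G) * r * (y : G)⁻¹) * (x : G)⁻¹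
        simp [mul_assoc]) }
  haveI := Fintype.ofFinite ↥R
  haveI := Fintype.ofFinite ↥E
  haveI := Fintype.ofFinite (MulAction.orbitRel.Quotient ↥E ↥R)
  have hB := MulAction.sum_card_fixedBy_eq_card_orbits_mul_card_group ↥E ↥R
  let eE : Fin 3 × Fin 3 ≃ ↥E := Equiv.ofBijective (fun k => ⟨v k, k, rfl⟩)
    ⟨fun x y h => hinj (congrArg Subtype.val h), fun ⟨_, k, e⟩ => ⟨k, Subtype.ext e⟩⟩
  have hfx : ∀ k, Fintype.card (MulAction.fixedBy ↥R (eE k)) = fixCard R (v k) := fun k => by
    rw [← Nat.card_eq_fintype_card]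
    refine Nat.card_congr
      { toFun := fun r => ⟨(r.1 : G), mem_fix.mpr ⟨r.1.2, ?_⟩⟩
        invFun := fun r => ⟨⟨r.1, (mem_fix.mp r.2).1⟩, ?_⟩
        left_inv := fun r => rfl
        right_inv := fun r => rfl }
    · have h2 : v k * (r.1 : G) * (v k)⁻¹ = r.1 := congrArg Subtype.val r.2
      exact (mul_inv_eq_iff_eq_mul.mp h2).symm
    · refine Subtype.ext ?_
      show v k * (r : G) * (v k)⁻¹ = r
      rw [← (mem_fix.mp r.2).2.eq, mul_inv_cancel_right]
  rw [← eE.sum_comp, Finset.sum_congr rfl fun k _ => hfx k] at hB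
  have h0 : fixCard R (1 : G) = Nat.card ↥R := by
    have e : R ⊓ centralizer ({(1 : G)} : Set G) = R := inf_eq_left.mpr fun r _ =>
      mem_centralizer_singleton_iff.mpr (by simp)
    rw [fixCard, e]
  have hE : Fintype.card ↥E = 9 := by rw [← Fintype.card_congr eE]; rfl
  simp only [Fintype.sum_prod_type, Fin.sum_univ_three, v, Fin.val_zero, Fin.val_one, Fin.val_two, pow_zero,
    one_mul, mul_one, hE] at hB
  rw [h0, pow_one, pow_one, hfix, hfp2, ← hf] at hB
  have k1 := hfa 1
  have k2 := hfa 2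
  have l0 := hfa2 0
  have l1 := hfa2 1
  have l2 := hfa2 2
  rw [pow_zero, one_mul] at l0
  rw [pow_one] at k1 l1
  rw [k1, k2, l0, l1, l2] at hB
  omega

end Cfsg.Lib.JankoFour.Reduce
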