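import Cfsg.Agent.JankoFour.Reduce.Perms
import Cfsg.Agent.JankoFour.Reduce.Count
import Cfsg.Agent.JankoFour.CentralP
import Cfsg.Agent.LargeExtra.Coprime

/-!
An extraspecial subgroup of order 2^13 with a normal subgroup of three times its order, a quotient isomorphic to the
automorphism group of the Mathieu group on 22 points and a perfect subgroup of index two over it: the element of
order three is fixed point free on the extraspecial group modulo its centre and is inverted.
-/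

set_option autoImplicit false
set_option maxHeartbeats 4000000
set_option linter.style.haveILetI false

namespace Cfsg.Lib.JankoFour.Reduce

open Subgroup
open scoped commutatorElement IsMulCommutative
open Cfsg.Lib.LargeExtra (exists_x2 coprime_decomposition)

/-- A perfect group of order prime to nine times a commutative subgroup has no central element of order three in it. -/
theorem transfer_three {X : Type*} [Group X] [Finite X] (hX : commutator X = ⊤) (S : Subgroup X) [IsMulCommutative ↥S]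
    {z : X} (hz : z ∈ S) (hzc : ∀ g : X, Commute g z) (h3 : z ^ 3 = 1) (h1 : z ≠ 1) : 3 ∣ S.index := by
  have key : ∀ (k : ℕ) (g : X), g⁻¹ * z ^ k * g ∈ S → g⁻¹ * z ^ k * g = z ^ k := fun k g _ => by
    rw [mul_assoc, ← ((hzc g).pow_right k).eq, inv_mul_cancel_left]
  have h := MonoidHom.transfer_eq_pow (MonoidHom.id ↥S) z key
  have hker : commutator X ≤ (MonoidHom.transfer (MonoidHom.id ↥S)).ker := Abelianization.commutator_subset_ker _
  have hz1 : MonoidHom.transfer (MonoidHom.id ↥S) z = 1 := MonoidHom.mem_ker.mp (hker (hX ▸ mem_top z))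
  rw [hz1] at h
  have h' : z ^ S.index = 1 := (congrArg Subtype.val h).symm
  haveI : Fact (Nat.Prime 3) := ⟨Nat.prime_three⟩
  rw [← orderOf_eq_prime h3 h1]
  exact orderOf_dvd_of_pow_eq_one h'

theorem exists_three {H : Type*} [Group H] [Finite H] {z : H} (hz : orderOf z = 2) (hzc : ∀ h : H, Commute h z)
    (Q N : Subgroup H) [Q.Normal] [N.Normal] (hQN : Q ≤ N) (hext : Cfsg.IsExtraspecial 2 ↥Q)
    (hcard : Nat.card ↥Q = 2 ^ 13) (hN : Nat.card ↥N = 3 * Nat.card ↥Q)
    (hc : centralizer (Q : Set H) ≤ Q) (ψ : H →* MulAut Spor.M22) (hψ : Function.Surjective ψ) (hk : ψ.ker = N)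
    (hperf : (Cfsg.Inn Spor.M22).comap ψ ≤ ⁅(Cfsg.Inn Spor.M22).comap ψ, (Cfsg.Inn Spor.M22).comap ψ⁆ ⊔ Q) :
    ∃ p : H, p ∈ N ∧ orderOf p = 3 ∧ Q ⊓ centralizer (zpowers p : Set H) = zpowers z ∧
      (∃ h : H, h * p * h⁻¹ = p⁻¹) ∧
      p ∈ ⁅centralizer (zpowers p : Set H), centralizer (zpowers p : Set H)⁆ := by
  classical
  haveI : Fact (Nat.Prime 3) := ⟨Nat.prime_three⟩
  haveI : Fact (Nat.Prime 11) := ⟨by norm_num⟩
  obtain ⟨z', hx, -⟩ := exists_x2 hext
  have hz1 : z ≠ 1 := fun e => by simp [e] at hz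
  have hzQ : z ∈ Q := hc (mem_centralizer_iff.mpr fun q _ => (hzc q).eq)
  obtain rfl : z = z' := (hx.cen z hzQ fun a _ => hzc a).resolve_left hz1
  set M := (Cfsg.Inn Spor.M22).comap ψ with hM
  have hNk : ∀ n, n ∈ N ↔ ψ n = 1 := fun n => by rw [← hk, MonoidHom.mem_ker]
  have hNM : N ≤ M := fun n hn => by rw [hM, mem_comap, (hNk n).mp hn]; exact one_mem _
  -- the element of order three
  obtain ⟨⟨p, hpN⟩, hp'⟩ := exists_prime_orderOf_dvd_card' (G := ↥N) 3 ⟨Nat.card ↥Q, hN⟩
  have hp : orderOf p = 3 := by rwa [Subgroup.orderOf_mk] at hp'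
  have hp3 : p ^ 3 = 1 := hp ▸ pow_orderOf_eq_one p
  have hp1 : p ≠ 1 := fun e => by simp [e] at hp
  have hQpow : ∀ q ∈ Q, q ^ 4 = 1 := fun q hq => by
    rw [show 4 = 2 * 2 by norm_num, pow_mul, pow_two q]
    rcases hx.sq q hq with e | e <;> rw [e]
    · rw [one_pow]
    · rw [pow_two, hx.zz]
  have hpQ : ∀ k : ℕ, p ^ k ∈ Q → p ^ k = 1 := fun k hk' => by
    have := hQpow _ hk'
    rwa [← pow_mul, show k * 4 = 3 * k + k by ring, pow_add, pow_mul, hp3, one_pow, one_mul] at this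
  set P := zpowers p with hP
  have hPN : P ≤ N := zpowers_le.mpr hpN
  have hPc : Nat.card ↥P = 3 := by rw [hP, Nat.card_zpowers, hp]
  have hsup : Q ⊔ P = N := by
    refine eq_of_le_of_card_ge (sup_le hQN hPN) ?_
    rw [hN, hcard]
    refine Nat.le_of_dvd Nat.card_pos (Nat.Coprime.mul_dvd_of_dvd_of_dvd (by norm_num) ?_ ?_)
    · rw [← hPc]; exact card_dvd_of_le le_sup_right
    · rw [← hcard]; exact card_dvd_of_le le_sup_left
  have hmemN : ∀ n ∈ N, ∃ q ∈ Q, ∃ k : ℕ, n = q * p ^ k := by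
    intro n hn
    rw [← hsup, ← SetLike.mem_coe, normal_mul] at hn
    obtain ⟨q, hq, x, hx', rfl⟩ := Set.mem_mul.mp hn
    obtain ⟨k, rfl⟩ := ((isOfFinOrder_of_finite p).mem_powers_iff_mem_zpowers.mpr hx' : x ∈ Submonoid.powers p)
    exact ⟨q, hq, k, rfl⟩
  -- modulo Q the element is central in M
  set π := QuotientGroup.mk' Q with hπ
  have hπ0 : ∀ x : H, π x = 1 ↔ x ∈ Q := fun x => by rw [hπ, ← MonoidHom.mem_ker, QuotientGroup.ker_mk']
  have hπN : ∀ n ∈ N, ∃ k : ℕ, π n = π p ^ k := fun n hn => by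
    obtain ⟨q, hq, k, rfl⟩ := hmemN n hn
    exact ⟨k, by rw [map_mul, (hπ0 q).mpr hq, one_mul, map_pow]⟩
  have hP1 : π p ≠ 1 := fun e => hp1 (by simpa using hpQ 1 (by rwa [pow_one, ← hπ0]))
  have hP3 : π p ^ 3 = 1 := by rw [← map_pow, hp3, map_one]
  have hsign : ∀ h : H, π (h * p * h⁻¹) = π p ∨ π (h * p * h⁻¹) = π p ^ 2 := fun h => by
    obtain ⟨k, e⟩ := hπN _ (Normal.conj_mem inferInstance p hpN h)
    rw [← Nat.div_add_mod k 3, pow_add, pow_mul, hP3, one_pow, one_mul] at e
    rcases (show k % 3 = 0 ∨ k % 3 = 1 ∨ k % 3 = 2 by omega) with r | r | r <;> rw [r] at e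
    · rw [pow_zero, map_mul, map_mul, map_inv, conj_eq_one_iff] at e; exact absurd e hP1
    · exact Or.inl (by rw [e, pow_one])
    · exact Or.inr e
  have hsq2 : ∀ h : H, π (h * p * h⁻¹) = π p ^ 2 → π (h⁻¹ * p * h) = π p ^ 2 := fun h e => by
    rcases hsign h⁻¹ with r | r <;> rw [inv_inv] at r
    · exfalso
      have : π p ^ 2 = π p := by
        rw [← e]
        conv_rhs => rw [show p = h * (h⁻¹ * p * h) * h⁻¹ by group]
        rw [map_mul π (h * (h⁻¹ * p * h)), map_mul π h (h⁻¹ * p * h), r, map_mul π (h * p), map_mul π h p]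
      rw [pow_two] at this
      exact hP1 (mul_eq_left.mp this)
    · exact r
  have hcen : ∀ m ∈ M, Commute (π m) (π p) := by
    have hle : ⁅M, M⁆ ⊔ Q ≤ (centralizer ({π p} : Set (H ⧸ Q))).comap π := by
      refine sup_le (commutator_le.mpr fun a _ b _ => ?_) fun q hq => ?_
      · rw [mem_comap, mem_centralizer_singleton_iff]
        have hc2 : ∀ h : H, ∃ e : ℕ, e % 3 ≠ 0 ∧ (e * e) % 3 = 1 ∧ π h * π p * (π h)⁻¹ = π p ^ e ∧
            (π h)⁻¹ * π p * π h = π p ^ e := fun h => by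
          rcases hsign h with r | r
          · refine ⟨1, by norm_num, by norm_num, by rw [pow_one, ← map_inv, ← map_mul, ← map_mul, r], ?_⟩
            rw [pow_one]
            rw [map_mul, map_mul, map_inv, mul_inv_eq_iff_eq_mul] at r
            rw [mul_assoc, ← r, inv_mul_cancel_left]
          · refine ⟨2, by norm_num, by norm_num, by rw [← map_inv, ← map_mul, ← map_mul, r], ?_⟩
            rw [← map_inv, ← map_mul, ← map_mul, hsq2 h r]
        obtain ⟨e, -, he, ha1, ha2⟩ := hc2 a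
        obtain ⟨g, -, hg, hb1, hb2⟩ := hc2 b
        have key : π ⁅a, b⁆ * π p * (π ⁅a, b⁆)⁻¹ = π p := by
          rw [map_commutatorElement, commutatorElement_def]
          calc π a * π b * (π a)⁻¹ * (π b)⁻¹ * π p * (π a * π b * (π a)⁻¹ * (π b)⁻¹)⁻¹
              = π a * (π b * ((π a)⁻¹ * ((π b)⁻¹ * π p * π b) * π a) * (π b)⁻¹) * (π a)⁻¹ := by group
            _ = π p ^ ((e * e) * (g * g)) := by
                rw [hb2, show (π a)⁻¹ * π p ^ g * π a = ((π a)⁻¹ * π p * π a) ^ g by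
                  simpa using (map_pow (MulAut.conj (π a)⁻¹) (π p) g), ha2, ← pow_mul, ← conj_pow, hb1, ← pow_mul,
                  ← conj_pow, ha1, ← pow_mul]
                congr 1; ring
            _ = π p := by
                rw [← Nat.div_add_mod (e * e * (g * g)) 3, pow_add, pow_mul, hP3, one_pow, one_mul, Nat.mul_mod, he, hg]
                norm_num
        exact mul_inv_eq_iff_eq_mul.mp key
      · rw [mem_comap, (hπ0 q).mpr hq]; exact one_mem _
    intro m hm
    exact mem_centralizer_singleton_iff.mp (hle (hperf hm))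
  have hM_cen : ∀ m ∈ M, m ∈ normalizer (P : Set H) → Commute m p := by
    intro m hm hn
    have h1 : m * p * m⁻¹ ∈ P := (mem_normalizer_iff.mp hn p).mp (mem_zpowers p)
    have h2 : m * p * m⁻¹ * p⁻¹ ∈ Q := (hπ0 _).mp (by
      rw [map_mul, map_mul, map_mul, map_inv, map_inv, (hcen m hm).eq, mul_inv_cancel_right, mul_inv_cancel])
    have h3 : m * p * m⁻¹ * p⁻¹ ∈ P := mul_mem h1 (inv_mem (mem_zpowers p))
    obtain ⟨k, e⟩ := ((isOfFinOrder_of_finite p).mem_powers_iff_mem_zpowers.mpr h3)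
    exact mul_inv_eq_iff_eq_mul.mp (mul_inv_eq_one.mp (e.symm.trans (hpQ k (by rw [show p ^ k = _ from e]; exact h2))))
  -- Frattini
  have hfr : ∀ h : H, ∃ m ∈ normalizer (P : Set H), ∃ n ∈ N, h = m * n := by
    intro h
    have hfac : (Nat.card ↥N).factorization 3 = 1 := by
      rw [hN, hcard, Nat.factorization_mul (by norm_num) (by norm_num), Finsupp.add_apply,
        Nat.prime_three.factorization_self, Nat.factorization_eq_zero_of_not_dvd (by norm_num)]
    let S : Sylow 3 ↥N := Sylow.ofCard (P.subgroupOf N)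
      (by rw [Nat.card_congr (subgroupOfEquivOfLe hPN).toEquiv, hPc, hfac, pow_one])
    have hS := Sylow.normalizer_sup_eq_top S
    rw [show ((S : Subgroup ↥N).map N.subtype) = P from map_subgroupOf_eq_of_le hPN] at hS
    have hh : h ∈ (normalizer (P : Set H) ⊔ N) := by rw [hS]; exact mem_top h
    rw [← SetLike.mem_coe, mul_normal] at hh
    obtain ⟨m, hm, n, hn, e⟩ := Set.mem_mul.mp hh
    exact ⟨m, hm, n, hn, e.symm⟩
  have hlift : ∀ m : Spor.M22, ∃ k : H, k ∈ M ∧ Commute k p ∧ ψ k = MulAut.conj m := by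
    intro m
    obtain ⟨h, hh⟩ := hψ (MulAut.conj m)
    obtain ⟨k, hk', n, hn, rfl⟩ := hfr h
    rw [map_mul, (hNk n).mp hn, mul_one] at hh
    have hkM : k ∈ M := by rw [hM, mem_comap, hh]; exact ⟨m, rfl⟩
    exact ⟨k, hkM, hM_cen k hkM hk', hh⟩
  have hNC : ∀ n ∈ N, Commute n p → ∃ q ∈ Q, Commute q p ∧ ∃ k : ℕ, n = q * p ^ k := fun n hn hc' => by
    obtain ⟨q, hq, k, rfl⟩ := hmemN n hn
    refine ⟨q, hq, ?_, k, rfl⟩
    have := hc'.mul_left ((Commute.refl p).pow_left k).inv_left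
    rwa [mul_inv_cancel_right] at this
  -- the lifts of two commuting elements of order three
  obtain ⟨a₀, b₀, φ, ha3, hb3, hab, hind, hφ, hφa, hφb⟩ := exists_outer_det
  obtain ⟨A₁, hA₁M, hA₁p, hψA₁⟩ := hlift a₀
  obtain ⟨B, hBM, hBp, hψB⟩ := hlift b₀
  obtain ⟨A, hAM, hAp, hψA, l, hA3⟩ : ∃ A, A ∈ M ∧ Commute A p ∧ ψ A = MulAut.conj a₀ ∧ ∃ l : ℕ, A ^ 3 = p ^ l := by
    obtain ⟨q, hq, hqp, k, e⟩ := hNC (A₁ ^ 3) ((hNk _).mpr (by rw [map_pow, hψA₁, ← map_pow, ha3, map_one]))
      (hA₁p.pow_left 3)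
    refine ⟨A₁ ^ 4, pow_mem hA₁M 4, hA₁p.pow_left 4, ?_, k * 4, ?_⟩
    · rw [map_pow, hψA₁, ← map_pow, pow_succ, ha3, one_mul]
    · rw [← pow_mul, show 4 * 3 = 3 * 4 by norm_num, pow_mul, e, (hqp.pow_right k).mul_pow, hQpow q hq, one_mul,
        ← pow_mul]
  have hABN : B * A * B⁻¹ * A⁻¹ ∈ N := (hNk _).mpr (by
    rw [map_mul, map_mul, map_mul, map_inv, map_inv, hψA, hψB, ← map_inv, ← map_inv, ← map_mul, ← map_mul, ← map_mul,
      show b₀ * a₀ * b₀⁻¹ * a₀⁻¹ = 1 by rw [← hab.eq, mul_inv_cancel_right, mul_inv_cancel], map_one])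
  obtain ⟨c, hcQ, hcp, j, hj⟩ := hNC _ hABN (((hBp.mul_left hAp).mul_left hBp.inv_left).mul_left hAp.inv_left)
  have hBA : B * A * B⁻¹ = c * p ^ j * A := by rw [← hj, inv_mul_cancel_right]
  -- the perfect group modulo Q
  have hpX : π p ∈ M.map π := ⟨p, hNM hpN, rfl⟩
  let X : Subgroup (H ⧸ Q) := M.map π
  let aX : ↥X := ⟨π A, A, hAM, rfl⟩
  let bX : ↥X := ⟨π B, B, hBM, rfl⟩
  let pX : ↥X := ⟨π p, hpX⟩
  have hperfX : commutator ↥X = ⊤ := by
    refine eq_top_iff.mpr fun x _ => ?_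
    obtain ⟨m, hm, hmx⟩ := x.2
    have h1 : (x : H ⧸ Q) ∈ (⁅M, M⁆ ⊔ Q).map π := ⟨m, hperf hm, hmx⟩
    rw [Subgroup.map_sup, map_commutator, show Q.map π = ⊥ from QuotientGroup.map_mk'_self Q, sup_bot_eq] at h1
    have h2 : (commutator ↥X).map X.subtype = ⁅X, X⁆ := map_subtype_commutator X
    rw [← h2] at h1
    exact (mem_map_iff_mem X.subtype_injective).mp h1
  have hj3 : j % 3 ≠ 0 := by
    intro h0
    have hcj : Commute aX bX := by
      refine Subtype.ext (mul_inv_eq_iff_eq_mul.mp ?_).symm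
      show π B * π A * (π B)⁻¹ = π A
      rw [← map_inv, ← map_mul, ← map_mul, hBA, map_mul, map_mul, (hπ0 c).mpr hcQ, one_mul, map_pow,
        ← Nat.div_add_mod j 3, h0, add_zero, pow_mul, hP3, one_pow, one_mul]
    have hXc : Nat.card ↥X = 3 * 443520 := by
      have hidx : X.index = 2 := by
        rw [← index_comap_of_surjective (H := X) (QuotientGroup.mk'_surjective Q),
          show X.comap π = M from comap_map_eq_self (by rw [QuotientGroup.ker_mk']; exact hQN.trans hNM), hM,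
          index_comap_of_surjective _ hψ, card_aut_M22.2]
      have hHN : Nat.card H = 887040 * Nat.card ↥N := by
        rw [card_eq_card_quotient_mul_card_subgroup N, ← card_aut_M22.1, ← Nat.card_congr
          (QuotientGroup.quotientKerEquivOfSurjective ψ hψ).toEquiv, hk]
      have h2 : Nat.card (H ⧸ Q) * Nat.card ↥Q = (887040 * 3) * Nat.card ↥Q := by
        rw [← card_eq_card_quotient_mul_card_subgroup Q, hHN, hN, mul_assoc]
      have h3 : Nat.card ↥X * 2 = Nat.card (H ⧸ Q) := by rw [← hidx]; exact X.card_mul_index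
      have h4 := Nat.eq_of_mul_eq_mul_right Nat.card_pos h2
      omega
    have hpc : ∀ g : ↥X, Commute g pX := fun g => by
      obtain ⟨m, hm, hmg⟩ := g.2
      refine Subtype.ext ?_
      show (g : H ⧸ Q) * π p = π p * g
      rw [← hmg, (hcen m hm).eq]
    have hgen : ∀ x ∈ ({aX, bX, pX} : Set ↥X), ∀ y ∈ ({aX, bX, pX} : Set ↥X), x * y = y * x := by
      intro x hx y hy
      simp only [Set.mem_insert_iff, Set.mem_singleton_iff] at hx hy
      rcases hx with rfl | rfl | rfl <;> rcases hy with rfl | rfl | rfl <;>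
        first | rfl | exact hcj.eq | exact hcj.eq.symm | exact (hpc _).eq | exact (hpc _).eq.symm
    let S := closure ({aX, bX, pX} : Set ↥X)
    haveI : IsMulCommutative ↥S := isMulCommutative_closure hgen
    have h27 : 27 ∣ Nat.card ↥S := by
      have hexp : ∀ x : ↥S, x ^ 9 = 1 := by
        rintro ⟨x, hx⟩
        refine Subtype.ext ?_
        show x ^ 9 = 1
        induction hx using closure_induction with
        | mem y hy =>
          simp only [Set.mem_insert_iff, Set.mem_singleton_iff] at hy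
          refine Subtype.ext ?_
          rcases hy with rfl | rfl | rfl
          · show π A ^ 9 = 1
            rw [← map_pow, show 9 = 3 * 3 by norm_num, pow_mul, hA3, ← pow_mul, mul_comm, pow_mul, hp3, one_pow,
              map_one]
          · show π B ^ 9 = 1
            obtain ⟨k, e⟩ := hπN (B ^ 3) ((hNk _).mpr (by rw [map_pow, hψB, ← map_pow, hb3, map_one]))
            rw [show 9 = 3 * 3 by norm_num, pow_mul, ← map_pow π B 3, e, ← pow_mul, mul_comm, pow_mul, hP3, one_pow]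
          · show π p ^ 9 = 1
            rw [show 9 = 3 * 3 by norm_num, pow_mul, hP3, one_pow]
        | one => exact one_pow 9
        | mul y w hy hw e1 e2 =>
          rw [(show Commute y w from congrArg Subtype.val (mul_comm' (⟨y, hy⟩ : ↥S) ⟨w, hw⟩)).mul_pow, e1, e2, one_mul]
        | inv y _ e => rw [inv_pow, e, inv_one]
      have hP : IsPGroup 3 ↥S := fun x => ⟨2, hexp x⟩
      obtain ⟨n, hn⟩ := hP.exists_card_eq
      have hge : 27 ≤ Nat.card ↥S := by
        let u : Fin 3 × Fin 3 × Fin 3 → ↥S := fun k => ⟨aX ^ k.1.val * bX ^ k.2.1.val * pX ^ k.2.2.val,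
          mul_mem (mul_mem (pow_mem (subset_closure (by simp)) _) (pow_mem (subset_closure (by simp)) _))
            (pow_mem (subset_closure (by simp)) _)⟩
        have hu : Function.Injective u := by
          rintro ⟨i, k, r⟩ ⟨i', k', r'⟩ h
          have h' : π A ^ i.val * π B ^ k.val * π p ^ r.val = π A ^ i'.val * π B ^ k'.val * π p ^ r'.val :=
            congrArg (fun x : ↥S => ((x : ↥X) : H ⧸ Q)) h
          simp only [← map_pow, ← map_mul] at h'
          have hq := (hπ0 _).mp (show π ((A ^ i.val * B ^ k.val * p ^ r.val)⁻¹ * (A ^ i'.val * B ^ k'.val * p ^ r'.val)) = 1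
            by rw [map_mul, map_inv, h', inv_mul_cancel])
          have he := (hNk _).mp (hQN hq)
          rw [map_mul, map_inv, map_mul, map_mul, map_mul, map_mul, map_pow, map_pow, map_pow, map_pow, map_pow,
            map_pow, (hNk p).mp hpN, one_pow, one_pow, mul_one, mul_one, hψA, hψB, ← map_pow, ← map_pow, ← map_pow,
            ← map_pow, ← map_mul, ← map_mul, inv_mul_eq_one] at he
          have he' := conjM22_injective he
          have hd : a₀ ^ ((i'.val + 2 * i.val) % 3) * b₀ ^ ((k'.val + 2 * k.val) % 3) = 1 := by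
            have hm : ∀ (g : Spor.M22), g ^ 3 = 1 → ∀ n, g ^ (n % 3) = g ^ n := fun g hg n => by
              conv_rhs => rw [← Nat.div_add_mod n 3, pow_add, pow_mul, hg, one_pow, one_mul]
            rw [hm _ ha3, hm _ hb3, pow_add, pow_add,
              show a₀ ^ i'.val * a₀ ^ (2 * i.val) * (b₀ ^ k'.val * b₀ ^ (2 * k.val)) =
                a₀ ^ i'.val * b₀ ^ k'.val * (a₀ ^ (2 * i.val) * b₀ ^ (2 * k.val)) from
                Commute.mul_mul_mul_comm (hab.pow_pow _ _) _ _, ← he', Commute.mul_mul_mul_comm (hab.symm.pow_pow _ _),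
              ← pow_add, ← pow_add, show i.val + 2 * i.val = 3 * i.val by ring,
              show k.val + 2 * k.val = 3 * k.val by ring, pow_mul, pow_mul, ha3, hb3, one_pow, one_pow, one_mul]
          obtain ⟨d1, d2⟩ := hind _ (Nat.mod_lt _ (by norm_num)) _ (Nat.mod_lt _ (by norm_num)) hd
          obtain rfl : i = i' := Fin.ext (by omega)
          obtain rfl : k = k' := Fin.ext (by omega)
          have hr : π p ^ r.val = π p ^ r'.val := by rw [← map_pow, ← map_pow]; simpa using h'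
          have hord : orderOf (π p) = 3 := orderOf_eq_prime hP3 hP1
          rw [Fin.ext (pow_injOn_Iio_orderOf (by simp [hord]) (by simp [hord]) hr)]
        have := Nat.card_le_card_of_injective u hu
        simpa using this
      have hn3 : 3 ≤ n := by
        by_contra hlt
        have : 3 ^ n ≤ 3 ^ 2 := Nat.pow_le_pow_right (by norm_num) (by omega)
        omega
      rw [hn, show (27 : ℕ) = 3 ^ 3 by norm_num]
      exact pow_dvd_pow 3 hn3
    have h3 := transfer_three hperfX S (z := pX) (subset_closure (by simp)) hpc (Subtype.ext hP3)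
      (fun e => hP1 (congrArg Subtype.val e))
    obtain ⟨d, hd⟩ := h27
    obtain ⟨d', hd'⟩ := h3
    have := S.card_mul_index
    rw [hd, hd', hXc, show 27 * d * (3 * d') = 81 * (d * d') by ring] at this
    omega
  have hcP : ∀ {x : H}, x ∈ centralizer (P : Set H) ↔ Commute x p := fun {x} => by
    rw [mem_centralizer_iff]
    refine ⟨fun h => (h p (mem_zpowers p)).symm, fun h y hy => ?_⟩
    obtain ⟨k, rfl⟩ := mem_zpowers_iff.mp hy
    exact (h.zpow_right k).eq.symm
  -- the commutator with the subgroup of order three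
  have hPodd : Odd (Nat.card ↥P) := by rw [hPc]; exact ⟨1, rfl⟩
  have hP1' : P ≠ ⊥ := fun e => hp1 (zpowers_eq_bot.mp e)
  have hnQ : ∀ h : H, h ∈ normalizer (Q : Set H) := fun h => by rw [normalizer_eq_top]; exact mem_top h
  obtain ⟨hgen, hcommR, hextR, -⟩ := coprime_decomposition hx hc (fun a _ => hnQ a) hPodd hP1'
  set R := ⁅Q, P⁆ with hR
  have hRQ : R ≤ Q := Cfsg.Lib.Coprime.commutator_le_of_le_normalizer fun a _ => hnQ a
  have hcen2 : ∀ r ∈ R, Commute r p → r = 1 ∨ r = z := fun r hr hrp => by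
    refine hx.cen r (hRQ hr) fun q hq => ?_
    have hle : (Q ⊓ centralizer (P : Set H)) ⊔ R ≤ centralizer ({r} : Set H) :=
      sup_le (fun x hx' => mem_centralizer_singleton_iff.mpr (hcommR x hx' r hr))
        (fun x hx' => mem_centralizer_singleton_iff.mpr (hcommR r ⟨hRQ hr, hcP.mpr hrp⟩ x hx').symm)
    exact mem_centralizer_singleton_iff.mp (hle (hgen.symm ▸ hq))
  have hzR : z ∈ R := by
    obtain ⟨z', hx', -⟩ := exists_x2 hextR
    have hle : (Q ⊓ centralizer (P : Set H)) ⊔ R ≤ centralizer ({z'} : Set H) :=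
      sup_le (fun x hx'' => mem_centralizer_singleton_iff.mpr (hcommR x hx'' z' hx'.mem))
        (fun x hx'' => mem_centralizer_singleton_iff.mpr (hx'.central x hx'').eq)
    have := (hx.cen z' (hRQ hx'.mem) fun q hq => mem_centralizer_singleton_iff.mp (hle (hgen.symm ▸ hq))).resolve_left hx'.ne
    exact this ▸ hx'.mem
  have hconjR : ∀ {k : H}, Commute k p → ∀ r ∈ R, k * r * k⁻¹ ∈ R := by
    intro k hk'
    have hle : R ≤ R.comap (MulAut.conj k).toMonoidHom := commutator_le.mpr fun q hq x hx' => by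
      show k * ⁅q, x⁆ * k⁻¹ ∈ R
      rw [show k * ⁅q, x⁆ * k⁻¹ = ⁅k * q * k⁻¹, k * x * k⁻¹⁆ by rw [commutatorElement_def, commutatorElement_def]; group,
        show k * x * k⁻¹ = x by rw [(mem_centralizer_iff.mp (hcP.mpr hk') x hx').symm, mul_inv_cancel_right]]
      exact commutator_mem_commutator ((inferInstance : Q.Normal).conj_mem q hq k) hx'
    exact fun r hr => hle hr
  have hnR : ∀ {k : H}, Commute k p → k ∈ normalizer (R : Set H) := fun {k} hk' =>
    mem_normalizer_iff.mpr fun r => ⟨hconjR hk' r, fun h => by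
      simpa [mul_assoc] using hconjR hk'.inv_left _ h⟩
  have hcR : ∀ {x : H}, x ∈ Q → Commute x p → ∀ r ∈ R, Commute x r := fun hx' hxp r hr =>
    hcommR _ ⟨hx', hcP.mpr hxp⟩ r hr
  have hfix : fixCard R p = 2 := by
    have e : R ⊓ centralizer ({p} : Set H) = zpowers z := by
      ext r
      rw [mem_fix, Cfsg.Lib.LargeExtra.mem_zpowers_two hx.zz]
      refine ⟨fun ⟨h1, h2⟩ => hcen2 r h1 h2, ?_⟩
      rintro (rfl | rfl)
      · exact ⟨one_mem _, Commute.one_left _⟩
      · exact ⟨hzR, (hzc p).symm⟩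
    rw [fixCard, e, Nat.card_zpowers, hz]
  have haP : A ∉ zpowers p := fun h => by
    have h1 : ψ A = 1 := (hNk A).mp (hPN h)
    rw [hψA] at h1
    exact absurd (hind 1 (by norm_num) 0 (by norm_num) (by
      rw [pow_one, pow_zero, mul_one]; exact conjM22_injective (h1.trans (map_one _).symm))) (by norm_num)
  have hR9 := nine_count R hp3 hp1 haP hA3 hAp (hnR (Commute.refl p)) (hnR hAp) (hnR hBp) (hcR hcQ hcp) hBp hj3
    hBA hfix
  have hRdvd : Nat.card ↥R ∣ 2 ^ 13 := hcard ▸ card_dvd_of_le hRQ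
  obtain ⟨n, hn13, hn⟩ := (Nat.dvd_prime_pow Nat.prime_two).mp hRdvd
  have hn' : n = 1 ∨ n = 7 ∨ n = 13 := by
    rw [hn] at hR9
    interval_cases n <;> simp_all
  -- the derived subgroup meets the element up to Q
  set K := M ⊓ centralizer (P : Set H) with hK
  have hKMap : M.map π ≤ K.map π := by
    rintro _ ⟨m, hm, rfl⟩
    obtain ⟨k, hk', n', hn', rfl⟩ := hfr m
    have hkM : k ∈ M := by
      have := mul_mem hm (inv_mem (hNM hn'))
      rwa [mul_inv_cancel_right] at this
    obtain ⟨q, hq, i, rfl⟩ := hmemN n' hn'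
    refine ⟨k * p ^ i, ⟨mul_mem hkM (pow_mem (hNM hpN) i), hcP.mpr ((hM_cen k hkM hk').mul_left
      ((Commute.refl p).pow_left i))⟩, ?_⟩
    simp [map_mul, (hπ0 q).mpr hq]
  obtain ⟨d, hd, q₀, hq₀, hpd⟩ : ∃ d ∈ ⁅K, K⁆, ∃ q ∈ Q, p = d * q := by
    have h1 : π p ∈ (⁅M, M⁆ ⊔ Q).map π := ⟨p, hperf (hNM hpN), rfl⟩
    rw [Subgroup.map_sup, map_commutator, show Q.map π = ⊥ from QuotientGroup.map_mk'_self Q, sup_bot_eq] at h1
    have h2 := commutator_mono hKMap hKMap h1
    rw [← map_commutator] at h2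
    obtain ⟨d, hd, e⟩ := h2
    exact ⟨d, hd, d⁻¹ * p, (hπ0 _).mp (by rw [map_mul, map_inv, e, inv_mul_cancel]), by group⟩
  have hq₀p : Commute q₀ p := by
    have hdp : Commute d p := hcP.mp ((commutator_le_self K |>.trans inf_le_right) hd)
    have := hdp.inv_left.mul_left (Commute.refl p)
    rwa [show d⁻¹ * p = q₀ by rw [hpd]; group] at this
  have hn13' : n = 13 := by
    rcases hn' with e | e | e
    · exfalso
      rw [e, pow_one] at hn
      have hRz : R = zpowers z := (eq_of_le_of_card_ge (zpowers_le.mpr hzR) (by rw [hn, Nat.card_zpowers, hz])).symm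
      have hpc : p ∈ centralizer (Q : Set H) := mem_centralizer_iff.mpr fun q hq => by
        have hle : (Q ⊓ centralizer (P : Set H)) ⊔ R ≤ centralizer ({p} : Set H) :=
          sup_le (fun x hx' => mem_centralizer_singleton_iff.mpr (hcP.mp hx'.2).eq)
            (hRz ▸ zpowers_le.mpr (mem_centralizer_singleton_iff.mpr (hzc p).symm.eq))
        exact mem_centralizer_singleton_iff.mp (hle (hgen.symm ▸ hq))
      exact hp1 (by simpa using hpQ 1 (by rw [pow_one]; exact hc hpc))
    · exfalso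
      rw [e] at hn
      -- an element of order eleven centralising the commutator
      let D := M ⊓ centralizer (P : Set H) ⊓ centralizer (R : Set H)
      obtain ⟨x₀, hx₀⟩ := exists_prime_orderOf_dvd_card' (G := Spor.M22) 11 (by
        rw [Cfsg.Lib.Golay.card_M22]; norm_num)
      obtain ⟨g₁, hg₁M, hg₁p, hg₁⟩ := hlift x₀
      have hx11 : x₀ ^ 11 = 1 := hx₀ ▸ pow_orderOf_eq_one x₀
      obtain ⟨g, hgK, hgg, hgne⟩ : ∃ g, (g ∈ M ∧ Commute g p) ∧ g ^ 11 ^ 1 = 1 ∧ ψ g ≠ 1 := by
        obtain ⟨q, hq, hqp, i, e'⟩ := hNC (g₁ ^ 11) ((hNk _).mpr (by rw [map_pow, hg₁, ← map_pow, hx11, map_one]))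
          (hg₁p.pow_left 11)
        refine ⟨g₁ ^ 12, ⟨pow_mem hg₁M _, hg₁p.pow_left _⟩, ?_, ?_⟩
        · rw [pow_one, ← pow_mul, show 12 * 11 = 11 * 12 by norm_num, pow_mul, e', (hqp.pow_right i).mul_pow,
            show 12 = 4 * 3 by norm_num, pow_mul q, hQpow q hq, one_pow, one_mul, ← pow_mul,
            show i * (4 * 3) = 3 * (4 * i) by ring, pow_mul, hp3, one_pow]
        · rw [map_pow, hg₁, ← map_pow, pow_succ, hx11, one_mul]
          intro h1
          rw [conjM22_injective (h1.trans (map_one _).symm), orderOf_one] at hx₀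
          norm_num at hx₀
      have hmod := card_modEq_fix (hnR hgK.2) hgg
      have hdvd : fixCard R g ∣ 2 ^ 7 := hn ▸ card_dvd_of_le inf_le_left
      obtain ⟨i, hi, hfi⟩ := (Nat.dvd_prime_pow Nat.prime_two).mp hdvd
      rw [hn, hfi] at hmod
      have hi7 : i = 7 := by
        revert hmod; interval_cases i <;> decide
      have hgR : ∀ r ∈ R, Commute r g := fun r hr => by
        have e2 : R ⊓ centralizer ({g} : Set H) = R := eq_of_le_of_card_ge inf_le_left (by
          rw [hn, ← hi7, ← hfi]; exact le_rfl)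
        exact (mem_fix.mp (show r ∈ R ⊓ centralizer ({g} : Set H) by rw [e2]; exact hr)).2
      have hD1 : g ∈ D := ⟨⟨hgK.1, hcP.mpr hgK.2⟩, mem_centralizer_iff.mpr fun r hr => (hgR r hr).eq⟩
      have hDn : ∀ k ∈ K, ∀ x ∈ D, k * x * k⁻¹ ∈ D := fun k hk' x hx' => by
        refine ⟨K.mul_mem (K.mul_mem hk' hx'.1) (K.inv_mem hk'), mem_centralizer_iff.mpr fun r hr => ?_⟩
        have h1 := mem_centralizer_iff.mp hx'.2 _ (hconjR (hcP.mp hk'.2).inv_left r hr)
        rw [inv_inv] at h1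
        calc r * (k * x * k⁻¹) = k * (k⁻¹ * r * k * x) * k⁻¹ := by group
          _ = k * (x * (k⁻¹ * r * k)) * k⁻¹ := by rw [h1]
          _ = _ := by group
      let D' : Subgroup Spor.M22 := (D.map ψ).comap MulAut.conj
      have hD'n : D'.Normal := ⟨fun u hu v => by
        obtain ⟨x, hx', e'⟩ := hu
        obtain ⟨k, hkM, hkp, hk'⟩ := hlift v
        exact ⟨k * x * k⁻¹, hDn k ⟨hkM, hcP.mpr hkp⟩ x hx', by
          rw [map_mul, map_mul, map_inv, map_mul, map_mul, map_inv, hk', e']⟩⟩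
      haveI := Cfsg.Lib.Golay.isSimple_M22
      have hD' : D' = ⊤ := by
        refine (IsSimpleGroup.eq_bot_or_eq_top_of_normal D' hD'n).resolve_left fun h => hgne ?_
        obtain ⟨m, hm⟩ : ψ g ∈ Cfsg.Inn Spor.M22 := hgK.1
        have : m ∈ D' := ⟨g, hD1, hm.symm⟩
        rw [h, mem_bot] at this
        rw [← hm, this, map_one]
      have hKdec : ∀ k ∈ K, ∃ x ∈ D, ∃ i : ℕ, k = x * p ^ i := by
        intro k hk'
        obtain ⟨m, hm⟩ : ψ k ∈ Cfsg.Inn Spor.M22 := hk'.1
        obtain ⟨x, hx', e'⟩ := (show m ∈ D' by rw [hD']; exact mem_top m)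
        obtain ⟨q, hq, hqp, i, e2⟩ := hNC (x⁻¹ * k) ((hNk _).mpr (by rw [map_mul, map_inv, e', hm, inv_mul_cancel]))
          ((hcP.mp hx'.1.2).inv_left.mul_left (hcP.mp hk'.2))
        refine ⟨x * q, mul_mem hx' ⟨⟨hNM (hQN hq), hcP.mpr hqp⟩, mem_centralizer_iff.mpr fun r hr =>
          ((hcR hq hqp) r hr).eq.symm⟩, i, ?_⟩
        rw [mul_assoc, ← e2, mul_inv_cancel_left]
      have hKK : ⁅K, K⁆ ≤ D := commutator_le.mpr fun u hu v hv => by
        obtain ⟨x, hx', i, rfl⟩ := hKdec u hu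
        obtain ⟨y, hy, i', rfl⟩ := hKdec v hv
        have hxp := hcP.mp hx'.1.2
        have hyp := hcP.mp hy.1.2
        have e' : ⁅x * p ^ i, y * p ^ i'⁆ = ⁅x, y⁆ := by
          rw [commutatorElement_def, commutatorElement_def, mul_inv_rev, mul_inv_rev,
            show x * p ^ i * (y * p ^ i') * ((p ^ i)⁻¹ * x⁻¹) * ((p ^ i')⁻¹ * y⁻¹) =
              x * (p ^ i * (y * p ^ i') * (p ^ i)⁻¹) * (x⁻¹ * (p ^ i')⁻¹) * y⁻¹ by group,
            ((hyp.pow_right i).symm.mul_right (Commute.pow_pow (Commute.refl p) i i')).eq, mul_inv_cancel_right,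
            ← (((hxp.pow_right i').inv_left).inv_right).eq.symm]
          group
        rw [e', commutatorElement_def]
        exact mul_mem (mul_mem (mul_mem hx' hy) (inv_mem hx')) (inv_mem hy)
      have hpR : p ∈ centralizer (R : Set H) := by
        rw [hpd]
        exact mul_mem (hKK hd).2 (mem_centralizer_iff.mpr fun r hr => (hcR hq₀ hq₀p r hr).eq.symm)
      have hpQc : p ∈ centralizer (Q : Set H) := mem_centralizer_iff.mpr fun q hq => by
        have hle : (Q ⊓ centralizer (P : Set H)) ⊔ R ≤ centralizer ({p} : Set H) :=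
          sup_le (fun x hx' => mem_centralizer_singleton_iff.mpr (hcP.mp hx'.2).eq)
            (fun r hr => mem_centralizer_singleton_iff.mpr (mem_centralizer_iff.mp hpR r hr))
        exact mem_centralizer_singleton_iff.mp (hle (hgen.symm ▸ hq))
      exact hp1 (by simpa using hpQ 1 (by rw [pow_one]; exact hc hpQc))
    · exact e
  have hRall : R = Q := eq_of_le_of_card_ge hRQ (by rw [hcard, hn, hn13'])
  have hCQ : Q ⊓ centralizer (P : Set H) = zpowers z := by
    ext r
    rw [Cfsg.Lib.LargeExtra.mem_zpowers_two hx.zz]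
    refine ⟨fun hr => hcen2 r (hRall.symm ▸ hr.1) (hcP.mp hr.2), ?_⟩
    rintro (rfl | rfl)
    · exact one_mem _
    · exact ⟨hzQ, hcP.mpr (hzc p).symm⟩
  refine ⟨p, hpN, hp, hCQ, ?_, ?_⟩
  · -- an element inverting it
    obtain ⟨h₀, hh₀⟩ := hψ φ
    obtain ⟨m, hm, n', hn', rfl⟩ := hfr h₀
    rw [map_mul, (hNk n').mp hn', mul_one] at hh₀
    refine ⟨m, ?_⟩
    obtain ⟨i, e⟩ := ((isOfFinOrder_of_finite p).mem_powers_iff_mem_zpowers.mpr
      ((mem_normalizer_iff.mp hm p).mp (mem_zpowers p)))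
    change p ^ i = m * p * m⁻¹ at e
    have hi3 : i % 3 = 1 ∨ i % 3 = 2 := by
      by_contra hcon
      have h0 : i % 3 = 0 := by omega
      rw [← Nat.div_add_mod i 3, h0, add_zero, pow_mul, hp3, one_pow, eq_comm, conj_eq_one_iff] at e
      exact hp1 e
    rcases hi3 with h1 | h2
    swap
    · rw [← e, ← Nat.div_add_mod i 3, h2, pow_add, pow_mul, hp3, one_pow, one_mul]
      exact eq_inv_of_mul_eq_one_left (by rw [← pow_succ, hp3])
    exfalso
    rw [← Nat.div_add_mod i 3, h1, pow_add, pow_mul, hp3, one_pow, one_mul, pow_one] at e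
    have hcm : Commute (π m) (π p) := by
      refine mul_inv_eq_iff_eq_mul.mp ?_
      rw [← map_inv, ← map_mul, ← map_mul, ← e]
    have hbar : ∀ x y : H, ψ x = ψ y → ∃ k : ℕ, π x = π p ^ k * π y := fun x y exy => by
      obtain ⟨k, hk'⟩ := hπN (x * y⁻¹) ((hNk _).mpr (by rw [map_mul, map_inv, exy, mul_inv_cancel]))
      exact ⟨k, by rw [← hk', map_mul, map_inv, inv_mul_cancel_right]⟩
    obtain ⟨s, hs⟩ := hbar (m * A * m⁻¹) A (by
      rw [map_mul, map_mul, map_inv, hψA, hh₀]
      refine MulEquiv.ext fun x => ?_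
      show φ (a₀ * φ.symm x * a₀⁻¹) = a₀ * x * a₀⁻¹
      rw [map_mul, map_mul, map_inv, hφa, MulEquiv.apply_symm_apply])
    obtain ⟨t, ht⟩ := hbar (m * B * m⁻¹) B⁻¹ (by
      rw [map_mul, map_mul, map_inv, map_inv, hψB, hh₀, ← map_inv]
      refine MulEquiv.ext fun x => ?_
      show φ (b₀ * φ.symm x * b₀⁻¹) = b₀⁻¹ * x * b₀⁻¹⁻¹
      rw [map_mul, map_mul, map_inv, hφb, MulEquiv.apply_symm_apply])
    simp only [map_mul, map_inv] at hs ht
    have hBAq : π B * π A * (π B)⁻¹ = π p ^ j * π A := by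
      rw [← map_inv, ← map_mul, ← map_mul, hBA, map_mul, map_mul, (hπ0 c).mpr hcQ, one_mul, map_pow]
    have hpA : Commute (π p) (π A) := (hcen A hAM).symm
    have hpB : Commute (π p) (π B) := (hcen B hBM).symm
    have hBi : (π B)⁻¹ * π A * π B = π p ^ (2 * j) * π A := by
      have h' : π A = π p ^ j * ((π B)⁻¹ * π A * π B) := by
        calc π A = (π B)⁻¹ * (π B * π A * (π B)⁻¹) * π B := by group
          _ = (π B)⁻¹ * π p ^ j * π A * π B := by rw [hBAq]; group
          _ = π p ^ j * (π B)⁻¹ * π A * π B := by rw [((hpB.pow_left j).inv_right).eq]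
          _ = _ := by group
      conv_rhs => rw [h', ← mul_assoc, ← pow_add, show 2 * j + j = 3 * j by ring, pow_mul, hP3, one_pow, one_mul]
    have lhs : π m * π B * (π m)⁻¹ * (π m * π A * (π m)⁻¹) * (π m * π B * (π m)⁻¹)⁻¹ =
        π p ^ j * (π p ^ s * π A) := by
      rw [← hs]
      calc π m * π B * (π m)⁻¹ * (π m * π A * (π m)⁻¹) * (π m * π B * (π m)⁻¹)⁻¹
          = π m * (π B * π A * (π B)⁻¹) * (π m)⁻¹ := by group
        _ = π m * π p ^ j * π A * (π m)⁻¹ := by rw [hBAq]; group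
        _ = π p ^ j * π m * π A * (π m)⁻¹ := by rw [(hcm.pow_right j).eq]
        _ = _ := by group
    rw [ht, hs] at lhs
    have rhs : π p ^ t * (π B)⁻¹ * (π p ^ s * π A) * (π p ^ t * (π B)⁻¹)⁻¹ = π p ^ s * (π p ^ (2 * j) * π A) := by
      rw [← hBi, mul_inv_rev, inv_inv,
        show π p ^ t * (π B)⁻¹ * (π p ^ s * π A) * (π B * (π p ^ t)⁻¹) =
          π p ^ t * ((π B)⁻¹ * π p ^ s) * π A * π B * (π p ^ t)⁻¹ by group,
        ← ((hpB.pow_left s).inv_right).eq,
        show π p ^ t * (π p ^ s * (π B)⁻¹) * π A * π B * (π p ^ t)⁻¹ =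
          π p ^ t * (π p ^ s * ((π B)⁻¹ * π A * π B)) * (π p ^ t)⁻¹ by group, hBi]
      have : Commute (π p ^ t) (π p ^ s * (π p ^ (2 * j) * π A)) :=
        (Commute.pow_pow (Commute.refl _) _ _).mul_right ((Commute.pow_pow (Commute.refl _) _ _).mul_right
          (hpA.pow_left t))
      rw [this.eq, mul_inv_cancel_right]
    rw [rhs, ← mul_assoc, ← mul_assoc, ← pow_add, ← pow_add, mul_left_inj, pow_add, pow_add,
      (Commute.pow_pow (Commute.refl (π p)) j s).eq, mul_right_inj, two_mul, pow_add] at lhs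
    have h1' := mul_eq_left.mp lhs
    exact hj3 (Nat.mod_eq_zero_of_dvd ((orderOf_eq_prime hP3 hP1) ▸ orderOf_dvd_of_pow_eq_one h1'))
  · -- in the derived subgroup
    have hdz : q₀ = 1 ∨ q₀ = z := (Cfsg.Lib.LargeExtra.mem_zpowers_two hx.zz).mp (hCQ ▸ ⟨hq₀, hcP.mpr hq₀p⟩)
    have hsq : q₀ ^ 4 = 1 := hQpow q₀ hq₀
    have hd4 : p = d ^ 4 := by
      have hc' : Commute d q₀ := by rcases hdz with rfl | rfl; exacts [Commute.one_right d, hzc d]
      rw [← mul_one (d ^ 4), ← hsq, ← hc'.mul_pow, ← hpd, pow_succ, hp3, one_mul]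
    have h4 := pow_mem (commutator_mono (inf_le_right : K ≤ centralizer (P : Set H)) inf_le_right hd) 4
    rwa [← hd4] at h4

end Cfsg.Lib.JankoFour.Reduce
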