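import Cfsg.Agent.JankoFour.MathieuGens

/-!
A Sylow 3-subgroup of the Mathieu group on 22 points and an outer automorphism fixing one generator and inverting
the other.
-/

set_option autoImplicit false
set_option maxRecDepth 100000
set_option maxHeartbeats 1000000

namespace Cfsg.Lib.JankoFour.Reduce

open Cfsg Cfsg.Lib.PermCert Cfsg.Lib.Golay
open Cfsg.Lib.Golay.FusionCert (same)

/-- The first generator. -/
def pa : PP := (13828420555810486174192216978340731013571910371989483541195274687434941755396351788162990265141926109564184887296, 13828420555950478764526471435847955791786094843432554543240010368247974019798996283470129968994088249545309290496)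

/-- The second generator. -/
def pb : PP := (13828374688077917522900897729834222069127528440628760204865208088793658887699397615333822749908862248273215553536, 13828347164554726763639949056206934019321826597411850032100037444757579487131784692515996087740630469752889409536)

/-- The outer permutation. -/
def ps : PP := (155958465840598922794849885316096482704314484372075118880785497917226971103885382121672610788177030025576471, 155958605809693399654177381634529482856779757377442771861051205804131422608878354423350827832720875986485271)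

/-- Words of the nine elements. -/
def w9 (i j : ℕ) : List PP := List.replicate i pa ++ List.replicate j pb

theorem perms_check : (valid 24 pa && sift 24 cgAutM22.chain [pa]) = true ∧
    (valid 24 pb && sift 24 cgAutM22.chain [pb]) = true ∧
    preserves ps = true ∧ ap ps.1 23 = 0 ∧ ap ps.1 0 = 23 ∧ valid 24 ps = true ∧
    same (w9 3 0) [] = true ∧ same (w9 0 3) [] = true ∧ same [pa, pb] [pb, pa] = true ∧
    (∀ i < 3, ∀ j < 3, same (w9 i j) [] = true → i = 0 ∧ j = 0) ∧
    same [ps, pa] [pa, ps] = true ∧ same [ps, pb] [pb, pb, ps] = true := by decide +kernel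

/-- A Sylow 3-subgroup and an outer automorphism of determinant minus one on it. -/
theorem exists_outer_det : ∃ (a b : Spor.M22) (φ : MulAut Spor.M22),
    a ^ 3 = 1 ∧ b ^ 3 = 1 ∧ Commute a b ∧ (∀ i < 3, ∀ j < 3, a ^ i * b ^ j = 1 → i = 0 ∧ j = 0) ∧
    φ ∉ Cfsg.Inn Spor.M22 ∧ φ a = a ∧ φ b = b⁻¹ := by
  obtain ⟨ha, hb, hsp, hs0, hs1, hsv, a3, b3, hab, hind, sa, sb⟩ := perms_check
  rw [Bool.and_eq_true] at ha hb
  have hmem : ∀ g, valid 24 g = true → sift 24 cgAutM22.chain [g] = true → toP g ∈ Spor.M22 := fun g h1 h2 => by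
    rw [M22_eq, ← chain_eq]; exact mem_of_sift cgAutM22_ok.1 h1 h2
  let a : Spor.M22 := ⟨toP pa, hmem pa ha.1 ha.2⟩
  let b : Spor.M22 := ⟨toP pb, hmem pb hb.1 hb.2⟩
  have hpow : ∀ i j, Rep ((a ^ i * b ^ j : Spor.M22) : Equiv.Perm GolayPt) (w9 i j) := by
    have h : ∀ (g : PP), valid 24 g = true → ∀ i, Rep (toP g ^ i) (List.replicate i g) := fun g hg i => by
      induction i with
      | zero => exact rep_one
      | succ i ih => rw [pow_succ', List.replicate_succ]; exact (rep_toP hg).mul ih
    intro i j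
    rw [Subgroup.coe_mul, SubgroupClass.coe_pow, SubgroupClass.coe_pow]
    exact (h pa ha.1 i).mul (h pb hb.1 j)
  have hone : ∀ i j, same (w9 i j) [] = true ↔ a ^ i * b ^ j = 1 := fun i j =>
    ⟨fun h => Subtype.ext (((hpow i j).eq_iff rep_one).mpr h), fun h => ((hpow i j).eq_iff rep_one).mp (by rw [h]; rfl)⟩
  let s := toP ps
  obtain ⟨hsn, hni⟩ : (∀ x ∈ Spor.M22, s * x * s⁻¹ ∈ Spor.M22) ∧
      ¬ ∃ h ∈ Spor.M22, ∀ x ∈ Spor.M22, s * x * s⁻¹ = h * x * h⁻¹ := by
    refine (Cfsg.Agent.S5599.result s (toP_mem_M24 hsp) ?_ ?_).2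
    · have h := toP_ptAt hsv (show (23 : ℕ) < 24 by norm_num)
      rw [hs0] at h
      exact h
    · have h := toP_ptAt hsv (show (0 : ℕ) < 24 by norm_num)
      rw [hs1] at h
      exact h
  let f : Spor.M22 →* Spor.M22 :=
    { toFun := fun x => ⟨s * x * s⁻¹, hsn x x.2⟩
      map_one' := Subtype.ext (by simp)
      map_mul' := fun x y => Subtype.ext (by simp [mul_assoc]) }
  have hf : Function.Bijective f := Finite.injective_iff_bijective.mp fun x y e =>
    Subtype.ext (mul_left_cancel (mul_right_cancel (congrArg Subtype.val e)))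
  obtain ⟨φ, hφ⟩ : ∃ φ : MulAut Spor.M22, ∀ x : Spor.M22, ((φ x : Spor.M22) : Equiv.Perm GolayPt) = s * x * s⁻¹ :=
    ⟨MulEquiv.ofBijective f hf, fun _ => rfl⟩
  clear hf f
  refine ⟨a, b, φ, ?_, ?_, ?_, ?_, ?_, ?_, ?_⟩
  · simpa using (hone 3 0).mp a3
  · simpa using (hone 0 3).mp b3
  · exact Subtype.ext ((((rep_toP ha.1).mul (rep_toP hb.1)).eq_iff ((rep_toP hb.1).mul (rep_toP ha.1))).mpr hab)
  · exact fun i hi j hj h => hind i hi j hj ((hone i j).mpr h)
  · rintro ⟨h, hh⟩
    refine hni ⟨h, h.2, fun x hx => ?_⟩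
    have e := congrArg (fun t : Spor.M22 => (t : Equiv.Perm GolayPt)) (DFunLike.congr_fun hh ⟨x, hx⟩)
    simp only [hφ, MulAut.conj_apply, Subgroup.coe_mul, Subgroup.coe_inv] at e
    exact e.symm
  · refine Subtype.ext ?_
    rw [hφ, mul_inv_eq_iff_eq_mul]
    exact (((rep_toP hsv).mul (rep_toP ha.1)).eq_iff ((rep_toP ha.1).mul (rep_toP hsv))).mpr sa
  · have hb2 : b⁻¹ = b * b := inv_eq_of_mul_eq_one_right (by
      have := (hone 0 3).mp b3
      simpa [pow_succ, mul_assoc] using this)
    refine Subtype.ext ?_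
    rw [hφ, hb2, mul_inv_eq_iff_eq_mul]
    exact (((rep_toP hsv).mul (rep_toP hb.1)).eq_iff
      (((rep_toP hb.1).mul (rep_toP hb.1)).mul (rep_toP hsv))).mpr sb

end Cfsg.Lib.JankoFour.Reduce
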