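import Cfsg.Agent.JankoFour.Reduce.Core
import Cfsg.Agent.LargeExtra.FittingSetting
import Cfsg.Agent.CommValues.Solvable
import Cfsg.Prelude.Def_JankoFourType
import Cfsg.Prelude.Def_MonsterType
import Cfsg.Prelude.Def_SporadicB

/-!
Hypotheses on an involution centraliser that make a group one of Janko-four type.
-/

set_option autoImplicit false
set_option maxHeartbeats 1000000
set_option linter.style.haveILetI false

namespace Cfsg.Lib.JankoFour.Reduce

open Subgroup
open scoped commutatorElement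

theorem inn_index : (Cfsg.Inn Spor.M22).index = 2 := card_aut_M22.2

theorem core_eq {H : Type*} [Group H] [Finite H] (Q N : Subgroup H) [Q.Normal] [N.Normal] (hQN : Q ≤ N)
    (hP : IsPGroup 2 ↥Q) (hN : Nat.card ↥N = 3 * Nat.card ↥Q) (ψ : H →* MulAut Spor.M22)
    (hψ : Function.Surjective ψ) (hk : ψ.ker = N) : Cfsg.pCore 2 H = Q := by
  haveI : Fact (Nat.Prime 2) := ⟨Nat.prime_two⟩
  refine le_antisymm ?_ (Cfsg.Lib.Components.le_pCore hP)
  haveI := (Cfsg.Lib.Components.pCore_normal_and_isPGroup (G := H) 2).1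
  have hO : IsPGroup 2 ↥(Cfsg.pCore 2 H) := Cfsg.Lib.Components.isPGroup_pCore 2
  set O := Cfsg.pCore 2 H with hOdef
  have hI : (O.map ψ).Normal := Normal.map inferInstance ψ hψ
  have hIP : IsPGroup 2 ↥(O.map ψ) := hO.map ψ
  let D : Subgroup Spor.M22 := (O.map ψ).comap MulAut.conj
  haveI := Cfsg.Lib.Golay.isSimple_M22
  have hD : D = ⊥ := by
    haveI : D.Normal := hI.comap _
    refine (IsSimpleGroup.eq_bot_or_eq_top_of_normal D inferInstance).resolve_right fun h => ?_
    have hDP : IsPGroup 2 ↥D := hIP.comap_of_injective MulAut.conj conjM22_injective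
    obtain ⟨n, hn⟩ := hDP.exists_card_eq
    rw [h, card_top, Cfsg.Lib.Golay.card_M22] at hn
    have h11 : 11 ∣ 2 ^ n := hn ▸ (by norm_num)
    exact absurd ((Nat.prime_dvd_prime_iff_eq (by norm_num) Nat.prime_two).mp
      ((by norm_num : Nat.Prime 11).dvd_of_dvd_pow h11)) (by norm_num)
  intro x hx
  have hxN : x ∈ N := by
    rw [← hk, MonoidHom.mem_ker]
    refine MulEquiv.ext fun m => ?_
    have h1 : MulAut.conj ((ψ x) m * m⁻¹) ∈ O.map ψ := by
      rw [map_mul, map_inv, show MulAut.conj ((ψ x) m) = ψ x * MulAut.conj m * (ψ x)⁻¹ from MulEquiv.ext fun y => by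
        show (ψ x) m * y * ((ψ x) m)⁻¹ = (ψ x) (m * (ψ x)⁻¹ y * m⁻¹)
        rw [map_mul, map_mul, map_inv, MulAut.apply_inv_self]]
      rw [mul_assoc (ψ x * MulAut.conj m), mul_assoc (ψ x)]
      exact mul_mem ⟨x, hx, rfl⟩ (by
        rw [← mul_assoc]
        exact hI.conj_mem _ (inv_mem ⟨x, hx, rfl⟩) _)
    have h2 : (ψ x) m * m⁻¹ ∈ D := h1
    rw [hD, mem_bot, mul_inv_eq_one] at h2
    exact h2
  obtain ⟨k, hkx⟩ := hO ⟨x, hx⟩
  have hq3 : ∀ y : ↥N ⧸ Q.subgroupOf N, y ^ 3 = 1 := fun y => by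
    have hcard : Nat.card (↥N ⧸ Q.subgroupOf N) = 3 := by
      have h := card_eq_card_quotient_mul_card_subgroup (Q.subgroupOf N)
      rw [hN, Nat.card_congr (subgroupOfEquivOfLe hQN).toEquiv] at h
      exact (Nat.eq_of_mul_eq_mul_right Nat.card_pos h).symm
    rw [← hcard]; exact pow_card_eq_one'
  have hx2 : ((⟨x, hxN⟩ : ↥N) : ↥N ⧸ Q.subgroupOf N) ^ 2 ^ k = 1 := by
    rw [← QuotientGroup.mk_pow, show (⟨x, hxN⟩ : ↥N) ^ 2 ^ k = 1 from
      Subtype.ext (by simpa using congrArg Subtype.val hkx), QuotientGroup.mk_one]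
  have hone : ((⟨x, hxN⟩ : ↥N) : ↥N ⧸ Q.subgroupOf N) = 1 := by
    have hd1 := orderOf_dvd_of_pow_eq_one hx2
    have hd2 := orderOf_dvd_of_pow_eq_one (hq3 ((⟨x, hxN⟩ : ↥N) : ↥N ⧸ Q.subgroupOf N))
    exact orderOf_eq_one_iff.mp (Nat.eq_one_of_dvd_coprimes (Nat.Coprime.pow_left k (by norm_num)) hd1 hd2)
  exact mem_subgroupOf.mp ((QuotientGroup.eq_one_iff _).mp hone)

/-- The hypotheses of Janko-four type from a surjection of the centraliser on the automorphism group of M22. -/
theorem janko_four_type {G : Type*} [Group G] [Finite G] {z : G} (hz : orderOf z = 2)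
    (Q N : Subgroup ↥(centralizer ({z} : Set G))) [Q.Normal] [N.Normal] (hQN : Q ≤ N)
    (hext : Cfsg.IsExtraspecial 2 ↥Q) (hcard : Nat.card ↥Q = 2 ^ 13) (hN : Nat.card ↥N = 3 * Nat.card ↥Q)
    (hc : centralizer (Q : Set ↥(centralizer ({z} : Set G))) ≤ Q)
    (ψ : ↥(centralizer ({z} : Set G)) →* MulAut Spor.M22) (hψ : Function.Surjective ψ) (hk : ψ.ker = N)
    (hperf : (Cfsg.Inn Spor.M22).comap ψ ≤ ⁅(Cfsg.Inn Spor.M22).comap ψ, (Cfsg.Inn Spor.M22).comap ψ⁆ ⊔ Q) :
    Cfsg.IsOfJankoFourTypeAt z := by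
  let z₀ : ↥(centralizer ({z} : Set G)) := ⟨z, mem_centralizer_singleton_iff.mpr rfl⟩
  have hz₀ : orderOf z₀ = 2 := by rw [Subgroup.orderOf_mk]; exact hz
  have hzc : ∀ h : ↥(centralizer ({z} : Set G)), Commute h z₀ := fun h => Subtype.ext (mem_centralizer_singleton_iff.mp h.2)
  obtain ⟨p, hpN, hp, hfix, ⟨h, hh⟩, hder⟩ := exists_three hz₀ hzc Q N hQN hext hcard hN hc ψ hψ hk hperf
  have hinj : Function.Injective (centralizer ({z} : Set G)).subtype := (centralizer ({z} : Set G)).subtype_injective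
  have hcore : twoCoreOfCentralizer z = Q.map (centralizer ({z} : Set G)).subtype := by
    rw [twoCoreOfCentralizer, core_eq Q N hQN hext.1.1 hN ψ hψ hk]
  have hzp : (zpowers p).map (centralizer ({z} : Set G)).subtype = zpowers (p : G) := MonoidHom.map_zpowers (centralizer ({z} : Set G)).subtype p
  refine ⟨zpowers (p : G), hz, ?_, ?_, ?_, ⟨N.map (centralizer ({z} : Set G)).subtype, ?_, map_subtype_le N, ?_, ?_, ?_, ?_⟩, ?_, ?_, ?_, ?_⟩
  · rw [hcore]; exact Cfsg.Lib.LargeFischer.isExtraspecial_congr (Q.equivMapOfInjective _ hinj) hext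
  · rw [hcore, card_map_of_injective hinj]; exact hcard
  · rw [hcore]
    rintro x ⟨hxC, hxc⟩
    exact ⟨⟨x, hxC⟩, hc (mem_centralizer_iff.mpr fun q hq => Subtype.ext (mem_centralizer_iff.mp hxc _ ⟨q, hq, rfl⟩)), rfl⟩
  · rw [hcore]; exact map_mono hQN
  · have key : ∀ g ∈ (centralizer ({z} : Set G)), ∀ x ∈ N.map (centralizer ({z} : Set G)).subtype, g * x * g⁻¹ ∈ N.map (centralizer ({z} : Set G)).subtype := by
      rintro g hg _ ⟨y, hy, rfl⟩
      exact ⟨⟨g, hg⟩ * y * ⟨g, hg⟩⁻¹, (inferInstance : N.Normal).conj_mem y hy _, rfl⟩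
    exact fun g hg => mem_normalizer_iff.mpr fun x => ⟨key g hg x, fun hx => by
      simpa [mul_assoc] using key _ (inv_mem hg) _ hx⟩
  · rw [hcore, card_map_of_injective hinj, card_map_of_injective hinj]; exact hN
  · have e : (N.map (centralizer ({z} : Set G)).subtype).subgroupOf (centralizer ({z} : Set G)) = N := comap_map_eq_self_of_injective hinj N
    haveI : ((N.map (centralizer ({z} : Set G)).subtype).subgroupOf (centralizer ({z} : Set G))).Normal := e.symm ▸ (inferInstance : N.Normal)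
    exact ⟨inferInstance, ⟨(QuotientGroup.quotientMulEquivOfEq (e.trans hk.symm)).trans
      (QuotientGroup.quotientKerEquivOfSurjective ψ hψ)⟩⟩
  · rw [zpowers_le]; exact ⟨p, hpN, rfl⟩
  · rw [Nat.card_zpowers, Subgroup.orderOf_coe]; exact hp
  · rw [hcore, ← hzp]
    ext x
    constructor
    · rintro ⟨⟨q, hq, rfl⟩, hx⟩
      have hq' : q ∈ Q ⊓ centralizer (zpowers p : Set ↥(centralizer ({z} : Set G))) := ⟨hq, mem_centralizer_iff.mpr fun y hy =>
        Subtype.ext (mem_centralizer_iff.mp hx _ ⟨y, hy, rfl⟩)⟩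
      rw [hfix] at hq'
      have := mem_map_of_mem (centralizer ({z} : Set G)).subtype hq'
      rwa [MonoidHom.map_zpowers] at this
    · intro hx
      rw [show zpowers z = (zpowers z₀).map (centralizer ({z} : Set G)).subtype from (MonoidHom.map_zpowers (centralizer ({z} : Set G)).subtype z₀).symm] at hx
      obtain ⟨y, hy, rfl⟩ := hx
      have hy' : y ∈ Q ⊓ centralizer (zpowers p : Set ↥(centralizer ({z} : Set G))) := hfix.symm ▸ hy
      refine ⟨⟨y, hy'.1, rfl⟩, mem_centralizer_iff.mpr ?_⟩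
      rintro _ ⟨w, hw, rfl⟩
      exact congrArg Subtype.val (mem_centralizer_iff.mp hy'.2 w hw)
  · intro e
    have hhN : (h : G) ∈ (centralizer ({z} : Set G)) ⊓ normalizer (zpowers (p : G) : Set G) := by
      refine ⟨h.2, ?_⟩
      have h1 : (h : G) * p * (h : G)⁻¹ = (p : G)⁻¹ := congrArg Subtype.val hh
      have h2 : (zpowers (p : G)).map (MulAut.conj (h : G)).toMonoidHom = zpowers (p : G) := by
        rw [MonoidHom.map_zpowers, show (MulAut.conj (h : G)).toMonoidHom (p : G) = (p : G)⁻¹ from h1, zpowers_inv]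
      refine mem_normalizer_iff.mpr fun x => ?_
      conv_rhs => rw [← h2]
      exact ⟨fun hx => ⟨x, hx, rfl⟩, fun ⟨y, hy, hxy⟩ => by
        rwa [← (MulAut.conj (h : G)).injective hxy]⟩
    rw [e] at hhN
    have hc' : Commute (p : G) h := mem_centralizer_iff.mp hhN.2 _ (mem_zpowers _)
    have h1 : (h : G) * p * (h : G)⁻¹ = (p : G)⁻¹ := congrArg Subtype.val hh
    rw [← hc'.eq, mul_inv_cancel_right] at h1
    have hpp : p ^ 2 = 1 := Subtype.ext (by
      show (p : G) ^ 2 = 1
      rw [pow_two]; exact mul_eq_one_iff_eq_inv.mpr h1)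
    have := orderOf_dvd_of_pow_eq_one hpp
    rw [hp] at this
    norm_num at this
  · rw [← hzp]
    have hle : (centralizer (zpowers p : Set ↥(centralizer ({z} : Set G)))).map (centralizer ({z} : Set G)).subtype ≤
        (centralizer ({z} : Set G)) ⊓ centralizer (((zpowers p).map (centralizer ({z} : Set G)).subtype : Subgroup G) : Set G) := by
      rintro _ ⟨y, hy, rfl⟩
      refine ⟨y.2, mem_centralizer_iff.mpr ?_⟩
      rintro _ ⟨w, hw, rfl⟩
      exact congrArg Subtype.val (mem_centralizer_iff.mp hy w hw)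
    refine le_trans ?_ (commutator_mono hle hle)
    rw [← map_commutator]
    exact map_mono (zpowers_le.mpr hder)

/-- The hypotheses with a normal subgroup of index two. -/
theorem type_of_index_two {G : Type*} [Group G] [Finite G] (t : G) (ht : orderOf t = 2)
    (Q N M : Subgroup ↥(centralizer ({t} : Set G))) [Q.Normal] [N.Normal] [M.Normal] (hQN : Q ≤ N) (hNM : N ≤ M)
    (hM : M.index = 2) (hQ : Cfsg.IsExtraspecial 2 ↥Q) (hcard : Nat.card ↥Q = 2 ^ 13)
    (hN : Nat.card ↥N = 3 * Nat.card ↥Q) (hperf : M ≤ ⁅M, M⁆ ⊔ Q)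
    (h2c : centralizer (Q : Set ↥(centralizer ({t} : Set G))) ≤ Q)
    (hout : ∀ c : ↥(centralizer ({t} : Set G)), (∀ m ∈ M, c * m * c⁻¹ * m⁻¹ ∈ N) → c ∈ M)
    (hM22 : Cfsg.Spor.IsoM22 (↥M ⧸ N.subgroupOf M)) : Cfsg.IsOfJankoFourTypeAt t := by
  obtain ⟨e⟩ := hM22
  let f : ↥M →* Spor.M22 := e.toMonoidHom.comp (QuotientGroup.mk' (N.subgroupOf M))
  have hfs : Function.Surjective f := e.surjective.comp (QuotientGroup.mk'_surjective _)
  have hfk : ∀ m : ↥M, f m = 1 ↔ (m : ↥(centralizer ({t} : Set G))) ∈ N := fun m => by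
    show e (QuotientGroup.mk' _ m) = 1 ↔ _
    rw [MulEquiv.map_eq_one_iff, ← MonoidHom.mem_ker, QuotientGroup.ker_mk', mem_subgroupOf]
  have hcongr : ∀ (h : ↥(centralizer ({t} : Set G))) (a b : ↥M), f a = f b →
      f (MulAut.conjNormal h a) = f (MulAut.conjNormal h b) := fun h a b hab => by
    rw [← inv_mul_eq_one, ← map_inv, ← map_mul, hfk] at hab ⊢
    rw [← map_inv, ← map_mul, MulAut.conjNormal_apply]
    exact (inferInstance : N.Normal).conj_mem _ hab h
  let g := Function.surjInv hfs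
  have hg : ∀ x, f (g x) = x := Function.surjInv_eq hfs
  let F : ↥(centralizer ({t} : Set G)) → Monoid.End Spor.M22 := fun h =>
    MonoidHom.mk' (fun x => f (MulAut.conjNormal h (g x))) fun x y => by
      rw [← map_mul, ← map_mul (MulAut.conjNormal h)]
      exact hcongr h _ _ (by rw [map_mul, hg, hg, hg])
  have hF : ∀ h (a : ↥M), F h (f a) = f (MulAut.conjNormal h a) := fun h a => hcongr h _ _ (hg _)
  have hF1 : ∀ x, F 1 x = x := fun x => by
    show f (MulAut.conjNormal 1 (g x)) = x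
    rw [map_one, MulAut.one_apply, hg]
  have hFm : ∀ h k x, F (h * k) x = F h (F k x) := fun h k x => by
    show f (MulAut.conjNormal (h * k) (g x)) = F h (f (MulAut.conjNormal k (g x)))
    rw [hF, map_mul, MulAut.mul_apply]
  let ψ : ↥(centralizer ({t} : Set G)) →* MulAut Spor.M22 :=
    { toFun := fun h =>
        { toFun := F h
          invFun := F h⁻¹
          left_inv := fun x => by rw [← hFm, inv_mul_cancel, hF1]
          right_inv := fun x => by rw [← hFm, mul_inv_cancel, hF1]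
          map_mul' := fun x y => map_mul (F h) x y }
      map_one' := MulEquiv.ext hF1
      map_mul' := fun h k => MulEquiv.ext (hFm h k) }
  have hψM : ∀ m : ↥M, ψ (m : ↥(centralizer ({t} : Set G))) = MulAut.conj (f m) := fun m => MulEquiv.ext fun x => by
    show f (MulAut.conjNormal (m : ↥(centralizer ({t} : Set G))) (g x)) = f m * x * (f m)⁻¹
    rw [show MulAut.conjNormal (m : ↥(centralizer ({t} : Set G))) (g x) = m * g x * m⁻¹ from Subtype.ext
      (MulAut.conjNormal_apply _ _), map_mul, map_mul, map_inv, hg]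
  have hψk : ψ.ker = N := by
    ext h
    rw [MonoidHom.mem_ker]
    constructor
    · intro h1
      have hm : h ∈ M := hout h fun m hm => by
        have h2 : f (MulAut.conjNormal h ⟨m, hm⟩) = f ⟨m, hm⟩ := by
          rw [← hF]
          exact DFunLike.congr_fun h1 _
        rw [← mul_inv_eq_one, ← map_inv, ← map_mul, hfk] at h2
        simpa [MulAut.conjNormal_apply] using h2
      rw [show h = ((⟨h, hm⟩ : ↥M) : ↥(centralizer ({t} : Set G))) from rfl, hψM] at h1
      exact (hfk ⟨h, hm⟩).mp (conjM22_injective (h1.trans (map_one _).symm))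
    · intro hh
      rw [show h = ((⟨h, hNM hh⟩ : ↥M) : ↥(centralizer ({t} : Set G))) from rfl, hψM,
        (hfk ⟨h, hNM hh⟩).mpr hh, map_one]
  have hindN : N.index = 887040 := by
    rw [← relIndex_mul_index hNM, hM, relIndex, index_eq_card, Nat.card_congr e.toEquiv, Cfsg.Lib.Golay.card_M22]
  have hψs : Function.Surjective ψ := by
    refine MonoidHom.range_eq_top.mp (eq_top_of_card_eq _ ?_)
    rw [card_aut_M22.1, ← Subgroup.index_ker, hψk, hindN]
  have hMI : (Cfsg.Inn Spor.M22).comap ψ = M := by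
    have hle : M ≤ (Cfsg.Inn Spor.M22).comap ψ := fun h hh => ⟨f ⟨h, hh⟩, (hψM ⟨h, hh⟩).symm⟩
    refine (eq_of_le_of_card_ge hle (le_of_eq ?_)).symm
    have h1 := ((Cfsg.Inn Spor.M22).comap ψ).card_mul_index
    have h2 := M.card_mul_index
    rw [index_comap_of_surjective _ hψs, inn_index] at h1
    rw [hM] at h2
    omega
  exact janko_four_type ht Q N hQN hQ hcard hN h2c ψ hψs hψk (hMI.symm ▸ hperf)

/-- The hypotheses with a generalised Fitting subgroup and an uncomplemented subgroup of order three. -/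
theorem type_of_uncomplemented {G : Type*} [Group G] [Finite G] (τ : G)
    (Q N : Subgroup ↥(centralizer ({τ} : Set G))) [Q.Normal] [N.Normal]
    (hS : Cfsg.IsExtraspecialCentralizerSetting τ Q 6) (hQN : Q ≤ N) (hN3 : Nat.card ↥N = 3 * Nat.card ↥Q)
    (hns : ∀ K : Subgroup ↥(centralizer ({τ} : Set G)), K ⊓ N = Q → K ⊔ N = ⊤ → False)
    (hAut : Nonempty (↥(centralizer ({τ} : Set G)) ⧸ N ≃* MulAut ↥Cfsg.Spor.M22)) :
    Cfsg.IsOfJankoFourTypeAt τ := by
  obtain ⟨hτ, hF, hext, hcard, -⟩ := hS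
  obtain ⟨e⟩ := hAut
  haveI : Fact (Nat.Prime 2) := ⟨Nat.prime_two⟩
  haveI : Fact (Nat.Prime 3) := ⟨Nat.prime_three⟩
  let ψ : ↥(centralizer ({τ} : Set G)) →* MulAut Spor.M22 := e.toMonoidHom.comp (QuotientGroup.mk' N)
  have hψs : Function.Surjective ψ := e.surjective.comp (QuotientGroup.mk'_surjective _)
  have hψk : ψ.ker = N := by
    ext h
    show e (QuotientGroup.mk' N h) = 1 ↔ _
    rw [MulEquiv.map_eq_one_iff, ← MonoidHom.mem_ker, QuotientGroup.ker_mk']
  have hc : centralizer (Q : Set ↥(centralizer ({τ} : Set G))) ≤ Q := by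
    have := Cfsg.Lib.Components.centralizer_genFitting_le (G := ↥(centralizer ({τ} : Set G)))
    rwa [hF] at this
  refine janko_four_type hτ Q N hQN hext (by simpa using hcard) hN3 hc ψ hψs hψk ?_
  set M := (Cfsg.Inn Spor.M22).comap ψ with hM
  set D := ⁅M, M⁆ ⊔ Q with hD
  haveI hMn : M.Normal := (Cfsg.innNormal _).comap ψ
  haveI hDn : D.Normal := inferInstance
  have hNM : N ≤ M := fun n hn => by
    rw [hM, mem_comap, show ψ n = 1 from MonoidHom.mem_ker.mp (hψk.ge hn)]; exact one_mem _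
  have hMidx : M.index = 2 := by rw [hM, index_comap_of_surjective _ hψs, inn_index]
  have hDN : M ≤ D ⊔ N := by
    intro m hm
    obtain ⟨x, hx⟩ : ψ m ∈ Cfsg.Inn Spor.M22 := hm
    have hx' : x ∈ commutator ↥Spor.M22 := M22_perfect ▸ mem_top x
    have hle : Cfsg.Inn Spor.M22 ≤ M.map ψ := by
      rintro w hw
      obtain ⟨y, rfl⟩ := hψs w
      exact ⟨y, hw, rfl⟩
    have h2 : ψ m ∈ ⁅M, M⁆.map ψ := by
      rw [← hx, map_commutator]
      have h3 := mem_map_of_mem MulAut.conj hx'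
      rw [commutator_def, map_commutator, ← MonoidHom.range_eq_map] at h3
      exact commutator_mono hle hle h3
    obtain ⟨d, hd, e'⟩ := h2
    have : m = d * (d⁻¹ * m) := by group
    rw [this]
    exact mul_mem (mem_sup_left (mem_sup_left hd)) (mem_sup_right (hψk.le (MonoidHom.mem_ker.mpr (by
      rw [map_mul, map_inv, e', inv_mul_cancel]))))
  by_contra hnot
  have hQD : Q ≤ D := le_sup_right
  have hDM : D ≤ M := sup_le (commutator_le_self M) (hQN.trans hNM)
  obtain ⟨n₀, hn₀⟩ : ∃ n, n = Nat.card ↥(D ⊓ N : Subgroup _) := ⟨_, rfl⟩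
  have hDNQ : D ⊓ N = Q := by
    have h1 : Nat.card ↥Q ∣ Nat.card ↥(D ⊓ N : Subgroup _) := card_dvd_of_le (le_inf hQD hQN)
    have h2 : Nat.card ↥(D ⊓ N : Subgroup _) ∣ 3 * Nat.card ↥Q := hN3 ▸ card_dvd_of_le inf_le_right
    obtain ⟨k, hk⟩ := h1
    rw [hk, mul_comm 3, Nat.mul_dvd_mul_iff_left Nat.card_pos, Nat.dvd_prime Nat.prime_three] at h2
    rcases h2 with rfl | rfl
    · exact (eq_of_le_of_card_ge (le_inf hQD hQN) (le_of_eq (by rw [hk, mul_one]))).symm
    · exfalso
      have e3 : D ⊓ N = N := eq_of_le_of_card_ge inf_le_right (le_of_eq (by rw [hk, hN3, mul_comm]))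
      exact hnot (hDN.trans (sup_le le_rfl (e3.ge.trans inf_le_left)))
  have hDMc : Nat.card ↥D * 3 = Nat.card ↥M := by
    have hsup : D ⊔ N = M := le_antisymm (sup_le hDM hNM) hDN
    have hN' := card_eq_card_quotient_mul_card_subgroup ((D ⊓ N).subgroupOf D)
    have hiso := Nat.card_congr (QuotientGroup.quotientInfEquivProdNormalQuotient D N).toEquiv
    have hM' := card_eq_card_quotient_mul_card_subgroup (N.subgroupOf (D ⊔ N))
    rw [Nat.card_congr (subgroupOfEquivOfLe (le_sup_right : N ≤ D ⊔ N)).toEquiv, hsup, hN3] at hM'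
    rw [Nat.card_congr (subgroupOfEquivOfLe (inf_le_left : D ⊓ N ≤ D)).toEquiv, hDNQ] at hN'
    have e1 : (D ⊓ N).subgroupOf D = N.subgroupOf D := by rw [inf_comm, inf_subgroupOf_right]
    rw [hsup] at hiso
    rw [← e1, hDNQ] at hiso
    rw [hM', hN', hiso, mul_comm 3, mul_assoc]
  have hDidx : D.index = 6 := by
    have h1 := D.card_mul_index
    have h2 := M.card_mul_index
    rw [hMidx, ← hDMc, ← h1, mul_assoc] at h2
    exact (Nat.eq_of_mul_eq_mul_left Nat.card_pos h2).symm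
  obtain ⟨y, hy⟩ := exists_prime_orderOf_dvd_card' (G := ↥(centralizer ({τ} : Set G)) ⧸ D) 2
    (by rw [← index_eq_card, hDidx]; norm_num)
  set K := (zpowers y).comap (QuotientGroup.mk' D) with hK
  have hDK : D ≤ K := fun d hd => by
    rw [hK, mem_comap, QuotientGroup.mk'_apply, (QuotientGroup.eq_one_iff d).mpr hd]; exact one_mem _
  have hKi : K.index = 3 := by
    rw [hK, index_comap_of_surjective _ (QuotientGroup.mk'_surjective _)]
    have := (zpowers y).card_mul_index
    rw [Nat.card_zpowers, hy, ← index_eq_card, hDidx] at this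
    omega
  refine hns K ?_ ?_
  · refine le_antisymm (fun x ⟨hxK, hxN⟩ => hDNQ ▸ ⟨?_, hxN⟩) (le_inf (hQD.trans hDK) hQN)
    have h1 : (QuotientGroup.mk' D x) ^ 2 = 1 := by
      obtain ⟨k, hk⟩ := mem_zpowers_iff.mp hxK
      rw [← hk, ← zpow_natCast, ← zpow_mul, mul_comm, zpow_mul, zpow_natCast, ← hy, pow_orderOf_eq_one, one_zpow]
    have h3 : (QuotientGroup.mk' D x) ^ 3 = 1 := by
      rw [← map_pow]
      refine (QuotientGroup.eq_one_iff _).mpr (hQD ?_)
      have hcard3 : Nat.card (↥N ⧸ Q.subgroupOf N) = 3 := by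
        have h := card_eq_card_quotient_mul_card_subgroup (Q.subgroupOf N)
        rw [hN3, Nat.card_congr (subgroupOfEquivOfLe hQN).toEquiv] at h
        exact (Nat.eq_of_mul_eq_mul_right Nat.card_pos h).symm
      have h4 : ((⟨x, hxN⟩ : ↥N) : ↥N ⧸ Q.subgroupOf N) ^ 3 = 1 := hcard3 ▸ pow_card_eq_one'
      rw [← QuotientGroup.mk_pow, QuotientGroup.eq_one_iff, mem_subgroupOf] at h4
      exact h4
    refine (QuotientGroup.eq_one_iff x).mp ?_
    calc QuotientGroup.mk' D x = (QuotientGroup.mk' D x) ^ 2 * QuotientGroup.mk' D x := by rw [h1, one_mul]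
      _ = _ := by rw [← pow_succ, h3]
  · by_contra hne
    have h1 : (K ⊔ N).index ∣ 3 := hKi ▸ index_dvd_of_le le_sup_left
    rcases (Nat.dvd_prime Nat.prime_three).mp h1 with e1 | e1
    · exact hne (index_eq_one.mp e1)
    · have hMK : M ≤ K ⊔ N := hDN.trans (sup_le_sup_right hDK N)
      have := index_dvd_of_le hMK
      rw [e1, hMidx] at this
      norm_num at this

end Cfsg.Lib.JankoFour.Reduce
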